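import Mathlib
import Groth.Agent.RegLoc.Serre

/-!
# Discrete valuation rings inside a field; normal Noetherian domains
-/

set_option autoImplicit false
set_option linter.style.haveILetI false

namespace Groth.Agent.MoriNagata

open IsLocalRing

universe u v

section Field

variable {K : Type u} [Field K]

/-- `W` is a discrete valuation ring of `K`. -/
def IsDiscrete (W : ValuationSubring K) : Prop := IsDiscreteValuationRing W

theorem mem_of_nonunit_mul {W : ValuationSubring K} {y : K} (h : y ∉ W) : y⁻¹ ∈ W.nonunits :=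
  (ValuationSubring.inv_mem_nonunits_iff W).2 (Or.inr h)

/-- Multiplying by a power of a nonunit brings any element into a discrete valuation ring. -/
theorem exists_pow_mul_mem {W : ValuationSubring K} (hW : IsDiscrete W) {e : K} (he : e ∈ W.nonunits)
    (he0 : e ≠ 0) (y : K) : ∃ n : ℕ, ∀ m, n ≤ m → e ^ m * y ∈ W := by
  haveI : IsDiscreteValuationRing W := hW
  have heW : e ∈ W := ValuationSubring.nonunits_subset he
  rcases W.mem_or_inv_mem y with hy | hy
  · exact ⟨0, fun m _ => W.mul_mem _ _ (pow_mem heW m) hy⟩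
  by_cases hy0 : y = 0
  · exact ⟨0, fun m _ => by rw [hy0, mul_zero]; exact W.zero_mem⟩
  obtain ⟨π, hπ⟩ := IsDiscreteValuationRing.exists_irreducible W
  have hz0 : (⟨y⁻¹, hy⟩ : W) ≠ 0 := fun h => inv_ne_zero hy0 (congrArg Subtype.val h)
  obtain ⟨n, u, hu⟩ := IsDiscreteValuationRing.eq_unit_mul_pow_irreducible hz0 hπ
  have hem : (⟨e, heW⟩ : W) ∈ maximalIdeal W := (ValuationSubring.coe_mem_nonunits_iff (A := W)).1 he
  rw [hπ.maximalIdeal_eq, Ideal.mem_span_singleton'] at hem
  obtain ⟨c, hc⟩ := hem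
  refine ⟨n, fun m hm => ?_⟩
  have hdvd : (⟨y⁻¹, hy⟩ : W) ∣ (⟨e, heW⟩ : W) ^ m := by
    rw [hu, ← hc, mul_pow, Units.mul_left_dvd]
    exact dvd_mul_of_dvd_right (pow_dvd_pow π hm) _
  obtain ⟨d, hd⟩ := hdvd
  have hd' : e ^ m = y⁻¹ * (d : K) := by
    simpa using congrArg Subtype.val hd
  rw [hd', mul_comm, ← mul_assoc, mul_inv_cancel₀ hy0, one_mul]
  exact d.2

theorem eq_of_le {W W' : ValuationSubring K} (hW : IsDiscrete W) (h : W ≤ W') (hne : W' ≠ ⊤) :
    W = W' := by
  refine le_antisymm h fun z hz => by_contra fun hzW => hne ?_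
  refine eq_top_iff.2 fun y _ => ?_
  have hz0 : z ≠ 0 := fun h0 => hzW (h0 ▸ W.zero_mem)
  obtain ⟨n, hn⟩ := exists_pow_mul_mem hW (mem_of_nonunit_mul hzW) (inv_ne_zero hz0) y
  have := W'.mul_mem _ _ (pow_mem hz n) (h (hn n le_rfl))
  rwa [← mul_assoc, ← mul_pow, mul_inv_cancel₀ hz0, one_pow, one_mul] at this

/-- Two elements, one outside `W`, one a nonunit, combine to a unit. -/
theorem exists_pow_mul_pow_unit {W : ValuationSubring K} (hW : IsDiscrete W) {x b : K} (hx : x ∉ W)
    (hb : b ∈ W.nonunits) (hb0 : b ≠ 0) :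
    ∃ i j : ℕ, 0 < i ∧ b ^ i * x ^ j ∈ W ∧ b ^ i * x ^ j ∉ W.nonunits := by
  haveI : IsDiscreteValuationRing W := hW
  have hx0 : x ≠ 0 := fun h0 => hx (h0 ▸ W.zero_mem)
  have hxm := mem_of_nonunit_mul hx
  have hbW : b ∈ W := ValuationSubring.nonunits_subset hb
  have hxW : x⁻¹ ∈ W := ValuationSubring.nonunits_subset hxm
  obtain ⟨π, hπ⟩ := IsDiscreteValuationRing.exists_irreducible W
  obtain ⟨j, u, hu⟩ := IsDiscreteValuationRing.eq_unit_mul_pow_irreducible
    (x := (⟨b, hbW⟩ : W)) (fun h => hb0 (congrArg Subtype.val h)) hπ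
  obtain ⟨i, v, hv⟩ := IsDiscreteValuationRing.eq_unit_mul_pow_irreducible
    (x := (⟨x⁻¹, hxW⟩ : W)) (fun h => inv_ne_zero hx0 (congrArg Subtype.val h)) hπ
  have hi : 0 < i := by
    rcases Nat.eq_zero_or_pos i with rfl | h
    · exfalso
      have := (ValuationSubring.coe_mem_nonunits_iff (A := W) (a := ⟨x⁻¹, hxW⟩)).1 hxm
      rw [hv, pow_zero, mul_one] at this
      exact (mem_maximalIdeal _).1 this v.isUnit
    · exact h
  have key : b ^ i * x ^ j = ((((u ^ i * (v ^ j)⁻¹ : Wˣ)) : W) : K) := by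
    have h1 : (⟨b, hbW⟩ : W) ^ i = ((u ^ i * (v ^ j)⁻¹ : Wˣ) : W) * (⟨x⁻¹, hxW⟩ : W) ^ j := by
      rw [hu, hv, mul_pow, mul_pow, ← pow_mul, ← pow_mul, mul_comm j i, Units.val_mul, mul_assoc,
        ← mul_assoc ((↑(v ^ j)⁻¹ : W)), ← Units.val_pow_eq_pow_val v, Units.inv_mul, one_mul,
        Units.val_pow_eq_pow_val]
    have h2 : b ^ i = ((((u ^ i * (v ^ j)⁻¹ : Wˣ)) : W) : K) * x⁻¹ ^ j := by
      simpa using congrArg Subtype.val h1
    rw [h2, mul_assoc, inv_pow, inv_mul_cancel₀ (pow_ne_zero j hx0), mul_one]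
  refine ⟨i, j, hi, key ▸ Subtype.mem _, fun h => ?_⟩
  rw [key] at h
  exact (mem_maximalIdeal _).1 ((ValuationSubring.coe_mem_nonunits_iff (A := W)).1 h) (Units.isUnit _)

/-- The valuation ring induced on a subfield by a discrete one is discrete or trivial. -/
theorem isDiscrete_comap {L : Type v} [Field L] (j : K →+* L) (O : ValuationSubring L)
    (hO : IsDiscrete O) (hne : O.comap j ≠ ⊤) : IsDiscrete (O.comap j) := by
  classical
  haveI : IsDiscreteValuationRing O := hO
  let W := O.comap j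
  have hjmem : ∀ {y : K}, y ∈ W ↔ j y ∈ O := Iff.rfl
  obtain ⟨π, hπ⟩ := IsDiscreteValuationRing.exists_irreducible O
  have hord : ∀ y : W, y ≠ 0 → ∃ n : ℕ, Associated (⟨j y, hjmem.1 y.2⟩ : O) (π ^ n) := fun y hy =>
    IsDiscreteValuationRing.associated_pow_irreducible
      (fun h => hy (Subtype.ext (j.injective (by simpa using congrArg Subtype.val h)))) hπ
  choose n hn using hord
  have hdvd : ∀ (a b : W) (ha : a ≠ 0) (hb : b ≠ 0), n a ha ≤ n b hb → a ∣ b := by
    intro a b ha hb hle
    have : (⟨j a, hjmem.1 a.2⟩ : O) ∣ ⟨j b, hjmem.1 b.2⟩ :=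
      (hn a ha).dvd.trans ((pow_dvd_pow π hle).trans (hn b hb).symm.dvd)
    obtain ⟨c, hc⟩ := this
    have ha' : (a : K) ≠ 0 := fun h => ha (Subtype.ext h)
    have hc' : j ((b : K) / a) = (c : L) := by
      have h1 : j b = j a * (c : L) := by simpa using congrArg Subtype.val hc
      rw [map_div₀, h1, mul_comm, mul_div_assoc, div_self ((map_ne_zero j).2 ha'), mul_one]
    have hmem : (b : K) / a ∈ W := by rw [hjmem, hc']; exact c.2
    exact ⟨⟨_, hmem⟩, Subtype.ext (by simp [mul_div_cancel₀ _ ha'])⟩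
  have hu0 : ∀ (a : W) (ha : a ≠ 0), n a ha = 0 → IsUnit a := by
    intro a ha h0
    have h1 : (1 : W) ≠ 0 := one_ne_zero
    exact isUnit_of_dvd_one (hdvd a 1 ha h1 (h0 ▸ Nat.zero_le _))
  have hex : ∃ a : W, a ≠ 0 ∧ ¬ IsUnit a := by
    by_contra hcon
    simp only [not_exists, not_and, not_not] at hcon
    refine hne (eq_top_iff.2 fun y _ => by_contra fun hy => ?_)
    have hy0 : y ≠ 0 := fun h0 => hy (h0 ▸ W.zero_mem)
    have hm := mem_of_nonunit_mul (W := W) hy
    have hmW : y⁻¹ ∈ W := ValuationSubring.nonunits_subset hm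
    exact (mem_maximalIdeal _).1 ((ValuationSubring.coe_mem_nonunits_iff (A := W) (a := ⟨y⁻¹, hmW⟩)).1 hm)
      (hcon _ fun h => inv_ne_zero hy0 (by simpa using congrArg Subtype.val h))
  have hexn : ∃ m, ∃ a : W, ∃ ha : a ≠ 0, ¬ IsUnit a ∧ n a ha = m :=
    let ⟨a, ha, hu⟩ := hex; ⟨_, a, ha, hu, rfl⟩
  obtain ⟨a, ha, hau, han⟩ := Nat.find_spec hexn
  have hmin : ∀ (b : W) (hb : b ≠ 0), ¬ IsUnit b → a ∣ b := fun b hb hbu =>
    hdvd a b ha hb (han ▸ Nat.find_min' hexn ⟨b, hb, hbu, rfl⟩)
  have hirr : Irreducible a := by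
    refine ⟨hau, fun x y hxy => ?_⟩
    by_contra hcon
    simp only [not_or] at hcon
    have hy : y ≠ 0 := fun h => ha (by rw [hxy, h, mul_zero])
    have hx : x ≠ 0 := fun h => ha (by rw [hxy, h, zero_mul])
    obtain ⟨t, ht⟩ := hmin x hx hcon.1
    refine hcon.2 (IsUnit.of_mul_eq_one t (mul_left_cancel₀ ha ?_))
    rw [mul_one, mul_comm y t, ← mul_assoc, ← ht, ← hxy]
  have hfac : ∀ (m : ℕ) (x : W) (hx : x ≠ 0), n x hx ≤ m → ∃ k : ℕ, Associated (a ^ k) x := by
    intro m
    induction m with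
    | zero =>
      intro x hx hle
      exact ⟨0, by rw [pow_zero]; exact associated_one_iff_isUnit.2 (hu0 x hx (by omega)) |>.symm⟩
    | succ m ih =>
      intro x hx hle
      by_cases hxu : IsUnit x
      · exact ⟨0, by rw [pow_zero]; exact (associated_one_iff_isUnit.2 hxu).symm⟩
      obtain ⟨t, rfl⟩ := hmin x hx hxu
      have ht : t ≠ 0 := right_ne_zero_of_mul hx
      obtain ⟨k, hk⟩ := ih t ht (by
        have h1 : Associated (π ^ n (a * t) hx) (π ^ (n a ha + n t ht)) := by
          rw [pow_add]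
          refine (hn _ hx).symm.trans ?_
          have : (⟨j ↑(a * t), hjmem.1 (a * t).2⟩ : O) = ⟨j a, hjmem.1 a.2⟩ * ⟨j t, hjmem.1 t.2⟩ :=
            Subtype.ext (by simp)
          rw [this]
          exact (hn a ha).mul_mul (hn t ht)
        have h3 : n (a * t) hx = n a ha + n t ht := by
          have h1' := (pow_dvd_pow_iff hπ.ne_zero hπ.not_isUnit).1 h1.dvd
          have h2' := (pow_dvd_pow_iff hπ.ne_zero hπ.not_isUnit).1 h1.symm.dvd
          omega
        have : 0 < n a ha := Nat.pos_of_ne_zero fun h0 => hau (hu0 a ha h0)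
        omega)
      exact ⟨k + 1, by rw [pow_succ']; exact hk.mul_left a⟩
  exact IsDiscreteValuationRing.ofHasUnitMulPowIrreducibleFactorization
    ⟨a, hirr, fun {x} hx => hfac _ x hx le_rfl⟩

end Field

section Normal

variable {D : Type u} [CommRing D] [IsDomain D] [IsNoetherianRing D] [IsIntegrallyClosed D]
  {L : Type v} [Field L] [Algebra D L] [IsFractionRing D L]

theorem isDVR_atPrime {P : Ideal D} [P.IsPrime] (hP : P.height = 1) :
    IsDiscreteValuationRing (Localization.AtPrime P) := by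
  have hP0 : P ≠ ⊥ := Ideal.ne_bot_of_height_eq_one hP
  haveI : IsNoetherianRing (Localization.AtPrime P) :=
    IsLocalization.isNoetherianRing P.primeCompl _ inferInstance
  haveI : IsIntegrallyClosed (Localization.AtPrime P) :=
    isIntegrallyClosed_of_isLocalization _ P.primeCompl P.primeCompl_le_nonZeroDivisors
  have hnf : ¬ IsField (Localization.AtPrime P) := IsLocalization.AtPrime.not_isField D hP0 _
  refine ((IsDiscreteValuationRing.TFAE (Localization.AtPrime P) hnf).out 0 3).2 ?_
  refine ⟨inferInstance, ?_⟩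
  refine ⟨maximalIdeal _, ⟨fun h => hnf (IsLocalRing.isField_iff_maximalIdeal_eq.2 h), inferInstance⟩, ?_⟩
  rintro Q ⟨hQ0, hQ⟩
  haveI := hQ
  by_contra hne
  have hlt := Ideal.height_add_one_le_of_lt_of_isPrime
    (lt_of_le_of_ne (le_maximalIdeal hQ.ne_top) hne)
  have hmax : (maximalIdeal (Localization.AtPrime P)).height = 1 := by
    have h2 := IsLocalRing.maximalIdeal_height_eq_ringKrullDim (R := Localization.AtPrime P)
    rw [IsLocalization.AtPrime.ringKrullDim_eq_height P, hP] at h2
    exact WithBot.coe_inj.1 h2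
  rw [hmax] at hlt
  have h1 : 1 ≤ Q.height := ENat.one_le_iff_ne_zero.2 fun h => hQ0 (Ideal.height_eq_zero_iff_eq_bot.1 h)
  have := (add_le_add h1 le_rfl).trans hlt
  norm_num at this

/-- The valuation ring of a height one prime. -/
noncomputable def valRing (P : Ideal D) [P.IsPrime] (hP : P.height = 1) : ValuationSubring L where
  carrier := {y | ∃ r s : D, s ∉ P ∧ y * algebraMap D L s = algebraMap D L r}
  mul_mem' := by
    rintro a b ⟨r, s, hs, h⟩ ⟨r', s', hs', h'⟩
    exact ⟨r * r', s * s', fun hm => (Ideal.IsPrime.mem_or_mem inferInstance hm).elim hs hs',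
      by rw [map_mul, map_mul, ← h, ← h']; ring⟩
  one_mem' := ⟨1, 1, fun h => Ideal.IsPrime.ne_top inferInstance ((Ideal.eq_top_iff_one P).2 h), by simp⟩
  add_mem' := by
    rintro a b ⟨r, s, hs, h⟩ ⟨r', s', hs', h'⟩
    exact ⟨r * s' + r' * s, s * s', fun hm => (Ideal.IsPrime.mem_or_mem inferInstance hm).elim hs hs',
      by rw [map_mul, map_add, map_mul, map_mul, ← h, ← h']; ring⟩
  zero_mem' := ⟨0, 1, fun h => Ideal.IsPrime.ne_top inferInstance ((Ideal.eq_top_iff_one P).2 h), by simp⟩
  neg_mem' := by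
    rintro a ⟨r, s, hs, h⟩
    exact ⟨-r, s, hs, by rw [map_neg, ← h]; ring⟩
  mem_or_inv_mem' := by
    intro y
    haveI := isDVR_atPrime hP
    obtain ⟨⟨a, b⟩, hab⟩ := IsLocalization.surj (nonZeroDivisors D) y
    simp only at hab
    by_cases hy : y = 0
    · left
      exact ⟨0, 1, fun h => Ideal.IsPrime.ne_top inferInstance ((Ideal.eq_top_iff_one P).2 h), by simp [hy]⟩
    rcases ValuationRing.dvd_total (algebraMap D (Localization.AtPrime P) a)
      (algebraMap D (Localization.AtPrime P) (b : D)) with ⟨c, hc⟩ | ⟨c, hc⟩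
    · right
      obtain ⟨⟨r, s⟩, hrs⟩ := IsLocalization.surj P.primeCompl c
      refine ⟨r, s, s.2, ?_⟩
      have hd : (b : D) * s = a * r := by
        refine IsLocalization.injective (Localization.AtPrime P) P.primeCompl_le_nonZeroDivisors ?_
        rw [map_mul, map_mul, hc, mul_assoc, hrs]
      have hd' := congrArg (algebraMap D L) hd
      rw [map_mul, map_mul, ← hab, mul_assoc, mul_left_comm] at hd'
      have hb0 : algebraMap D L (b : D) ≠ 0 :=
        (map_ne_zero_iff _ (IsFractionRing.injective D L)).2 (nonZeroDivisors.coe_ne_zero b)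
      have h' := mul_left_cancel₀ hb0 hd'
      rw [h', ← mul_assoc, inv_mul_cancel₀ hy, one_mul]
    · left
      obtain ⟨⟨r, s⟩, hrs⟩ := IsLocalization.surj P.primeCompl c
      refine ⟨r, s, s.2, ?_⟩
      have hd : a * s = (b : D) * r := by
        refine IsLocalization.injective (Localization.AtPrime P) P.primeCompl_le_nonZeroDivisors ?_
        rw [map_mul, map_mul, hc, mul_assoc, hrs]
      have hd' := congrArg (algebraMap D L) hd
      rw [map_mul, map_mul, ← hab, mul_comm y, mul_assoc] at hd'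
      exact mul_left_cancel₀ ((map_ne_zero_iff _ (IsFractionRing.injective D L)).2
        (nonZeroDivisors.coe_ne_zero b)) hd'

theorem mem_valRing {P : Ideal D} [P.IsPrime] {hP : P.height = 1} {y : L} :
    y ∈ valRing (L := L) P hP ↔ ∃ r s : D, s ∉ P ∧ y * algebraMap D L s = algebraMap D L r := Iff.rfl

theorem isDiscrete_valRing (P : Ideal D) [P.IsPrime] (hP : P.height = 1) :
    IsDiscrete (valRing (L := L) P hP) := by
  haveI := isDVR_atPrime hP
  let g : Localization.AtPrime P →+* L := IsLocalization.lift (M := P.primeCompl) (g := algebraMap D L)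
    (fun s => Ne.isUnit ((map_ne_zero_iff _ (IsFractionRing.injective D L)).2
      (fun h => s.2 (h ▸ P.zero_mem))))
  have hg : Function.Injective g := by
    refine (IsLocalization.lift_injective_iff _).2 fun x y => ?_
    exact ⟨fun h => congrArg _ ((IsLocalization.injective (Localization.AtPrime P) P.primeCompl_le_nonZeroDivisors) h),
      fun h => congrArg _ ((IsFractionRing.injective D L) h)⟩
  have hmem : ∀ z, g z ∈ valRing (L := L) P hP := by
    intro z
    obtain ⟨⟨r, s⟩, h⟩ := IsLocalization.surj P.primeCompl z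
    refine ⟨r, s, s.2, ?_⟩
    have := congrArg g h
    rwa [map_mul, IsLocalization.lift_eq, IsLocalization.lift_eq] at this
  let e : Localization.AtPrime P ≃+* valRing (L := L) P hP := RingEquiv.ofBijective
    (g.codRestrict (valRing (L := L) P hP).toSubring hmem) ⟨fun a b h => hg (congrArg Subtype.val h), by
    rintro ⟨y, r, s, hs, hy⟩
    refine ⟨IsLocalization.mk' _ r (⟨s, hs⟩ : P.primeCompl), Subtype.ext ?_⟩
    show g _ = y
    have hs0 : algebraMap D L s ≠ 0 := (map_ne_zero_iff _ (IsFractionRing.injective D L)).2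
      (fun h => hs (h ▸ P.zero_mem))
    refine mul_right_cancel₀ hs0 ?_
    rw [hy]
    have h1 : g (algebraMap D (Localization.AtPrime P) s) = algebraMap D L s := IsLocalization.lift_eq _ s
    rw [← h1, ← map_mul]
    refine Eq.trans (congrArg g (IsLocalization.mk'_spec (Localization.AtPrime P) r (⟨s, hs⟩ : P.primeCompl))) ?_
    exact IsLocalization.lift_eq _ r⟩
  exact IsDiscreteValuationRing.RingEquivClass.isDiscreteValuationRing e

theorem exists_heightOne_notMem {y : L} (hy : y ∉ (algebraMap D L).range) :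
    ∃ (P : Ideal D) (_ : P.IsPrime) (hP : P.height = 1), y ∉ valRing (L := L) P hP := by
  obtain ⟨⟨a, b⟩, hab⟩ := IsLocalization.surj (nonZeroDivisors D) y
  simp only at hab
  let J : Ideal D := (Ideal.span {(b : D)}).colon {a}
  have hbJ : (b : D) ∈ J := by
    rw [Submodule.mem_colon_singleton]
    exact Ideal.mul_mem_right _ _ (Ideal.mem_span_singleton_self _)
  have hJ : J ≠ ⊤ := by
    intro h
    have h1 : (1 : D) ∈ J := h ▸ Submodule.mem_top
    rw [Submodule.mem_colon_singleton, one_smul, Ideal.mem_span_singleton'] at h1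
    obtain ⟨c, hc⟩ := h1
    refine hy ⟨c, ?_⟩
    refine mul_right_cancel₀ ((map_ne_zero_iff _ (IsFractionRing.injective D L)).2
      (nonZeroDivisors.coe_ne_zero b)) ?_
    rw [hab, ← map_mul, hc]
  obtain ⟨P, hPmem⟩ := Ideal.nonempty_minimalPrimes hJ
  haveI := hPmem.1.1
  obtain ⟨a', ha'⟩ := Submodule.exists_eq_colon_of_mem_minimalPrimes (x := a) hPmem
  have hinj := IsLocalization.injective (Localization.AtPrime P) P.primeCompl_le_nonZeroDivisors
  haveI : IsNoetherianRing (Localization.AtPrime P) :=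
    IsLocalization.isNoetherianRing P.primeCompl _ inferInstance
  haveI : IsIntegrallyClosed (Localization.AtPrime P) :=
    isIntegrallyClosed_of_isLocalization _ P.primeCompl P.primeCompl_le_nonZeroDivisors
  have hb0 : algebraMap D (Localization.AtPrime P) (b : D) ≠ 0 := by
    rw [Ne, map_eq_zero_iff _ hinj]; exact nonZeroDivisors.coe_ne_zero b
  have hprin : (maximalIdeal (Localization.AtPrime P)).IsPrincipal := by
    by_contra hnp
    have hdiv : algebraMap D (Localization.AtPrime P) (b : D) ∣ algebraMap D _ a' := by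
      refine Props.NormalCM.notMem_of_smul_mem hb0 (fun z hz => ?_) hnp
      rw [← Localization.AtPrime.map_eq_maximalIdeal] at hz
      rw [← Ideal.mem_span_singleton]
      have h2 : Ideal.map (algebraMap D (Localization.AtPrime P)) P ≤
          (Ideal.span {algebraMap D (Localization.AtPrime P) (b : D)}).colon {algebraMap D _ a'} := by
        rw [Ideal.map_le_iff_le_comap]
        intro p hp
        rw [ha', Submodule.mem_colon_singleton, smul_eq_mul] at hp
        rw [Ideal.mem_comap, Submodule.mem_colon_singleton, smul_eq_mul, ← map_mul, ← Set.image_singleton,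
          ← Ideal.map_span]
        exact Ideal.mem_map_of_mem _ hp
      have := h2 hz
      rwa [Submodule.mem_colon_singleton, smul_eq_mul] at this
    rw [← Ideal.mem_span_singleton, ← Set.image_singleton, ← Ideal.map_span,
      IsLocalization.algebraMap_mem_map_algebraMap_iff P.primeCompl] at hdiv
    obtain ⟨s, hs, hsa⟩ := hdiv
    refine hs ?_
    rw [SetLike.mem_coe, ha', Submodule.mem_colon_singleton]
    exact hsa
  have hP1 : P.height = 1 := by
    refine le_antisymm ?_ (ENat.one_le_iff_ne_zero.2 ?_)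
    · have h := Ideal.height_le_one_of_isPrincipal_of_mem_minimalPrimes
        (maximalIdeal (Localization.AtPrime P)) (maximalIdeal _)
        (by rw [Ideal.minimalPrimes_eq_subsingleton_self]; rfl)
      have h2 := IsLocalRing.maximalIdeal_height_eq_ringKrullDim (R := Localization.AtPrime P)
      rw [IsLocalization.AtPrime.ringKrullDim_eq_height P] at h2
      exact (WithBot.coe_inj.1 h2) ▸ h
    · intro h
      rw [Ideal.height_eq_zero_iff_eq_bot] at h
      exact nonZeroDivisors.coe_ne_zero b (by simpa [h] using hPmem.1.2 hbJ)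
  refine ⟨P, inferInstance, hP1, ?_⟩
  rintro ⟨r, s, hs, hrs⟩
  refine hs (hPmem.1.2 ?_)
  rw [Submodule.mem_colon_singleton, smul_eq_mul, Ideal.mem_span_singleton']
  refine ⟨r, IsFractionRing.injective D L ?_⟩
  rw [map_mul, map_mul, ← hrs, ← hab]; ring

theorem finite_heightOne_notMem (y : L) :
    {P : Ideal D | ∃ (_ : P.IsPrime) (hP : P.height = 1), y ∉ valRing (L := L) P hP}.Finite := by
  obtain ⟨⟨a, b⟩, hab⟩ := IsLocalization.surj (nonZeroDivisors D) y
  refine ((Ideal.span {(b : D)}).finite_minimalPrimes_of_isNoetherianRing D).subset ?_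
  rintro P ⟨hPp, hP, hy⟩
  have hb : (b : D) ∈ P := by
    by_contra hb
    exact hy ⟨a, b, hb, hab⟩
  refine Ideal.mem_minimalPrimes_of_height_le (by rwa [Ideal.span_singleton_le_iff_mem]) ?_
  rw [hP, Ideal.height_span_singleton_eq_one_of_mem_nonZeroDivisors b.2]
  exact fun hu => hPp.ne_top (Ideal.eq_top_of_isUnit_mem _ hb hu)

end Normal

end Groth.Agent.MoriNagata
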