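import Mathlib

/-!
# Descending integrality along a flat ring map
-/

set_option autoImplicit false

namespace Groth.Agent.MoriNagata

open TensorProduct Polynomial

universe u v w

variable {A : Type u} [CommRing A] {B : Type v} [CommRing B] [Algebra A B]
  {K : Type w} [CommRing K] [Algebra A K]

/-- If `σ ⊗ y` is integral over `B`, a power of `σ` lies in the extension of an ideal of `A`
multiplying `y` into integral elements. -/
theorem exists_ideal_of_isIntegral_tmul [Module.Flat A B] (y : K) (σ : B)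
    (h : IsIntegral B (σ ⊗ₜ[A] y : B ⊗[A] K)) :
    ∃ I : Ideal A, (∀ s ∈ I, IsIntegral A (s • y)) ∧ ∃ n : ℕ, σ ^ n ∈ I.map (algebraMap A B) := by
  obtain ⟨g, hg, hg0⟩ := h
  set n := g.natDegree with hn
  let N : Submodule A K := Submodule.span A (Set.range fun i : Fin n => y ^ (i : ℕ))
  let I : Ideal A := N.comap (LinearMap.toSpanSingleton A K (y ^ n))
  refine ⟨I, fun s hs => ?_, n, ?_⟩
  · -- `s • y` is integral
    have hs' : s • y ^ n ∈ N := hs
    obtain ⟨c, hc⟩ := Submodule.mem_span_range_iff_exists_fun A |>.1 hs'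
    by_cases hs0 : s = 0
    · rw [hs0, zero_smul]; exact isIntegral_zero
    let P : A[X] := C s * X ^ n - ∑ i : Fin n, C (c i) * X ^ (i : ℕ)
    have hdeg : (∑ i : Fin n, C (c i) * X ^ (i : ℕ)).degree < (n : WithBot ℕ) := degree_sum_fin_lt _
    have hlc : P.leadingCoeff = s := by
      have h1 : (C s * X ^ n).degree = (n : WithBot ℕ) := degree_C_mul_X_pow n hs0
      rw [leadingCoeff_sub_of_degree_lt (by rwa [h1]), leadingCoeff_C_mul_X_pow]
    have := isIntegral_leadingCoeff_smul (p := P) (x := y) (by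
      simp only [P, map_sub, map_mul, map_sum, map_pow, aeval_C, aeval_X]
      rw [sub_eq_zero]
      simp only [← Algebra.smul_def]
      exact hc.symm)
    rwa [hlc] at this
  · -- `σ ^ n` lies in `I B`
    have hT : (σ ^ n) ⊗ₜ[A] (y ^ n) ∈ LinearMap.range (N.subtype.lTensor B) := by
      rw [show (σ ^ n) ⊗ₜ[A] (y ^ n) = (σ ⊗ₜ[A] y : B ⊗[A] K) ^ n by
        rw [Algebra.TensorProduct.tmul_pow]]
      have hsum : (σ ⊗ₜ[A] y : B ⊗[A] K) ^ n =
          - ∑ i ∈ Finset.range n, algebraMap B (B ⊗[A] K) (g.coeff i) * (σ ⊗ₜ[A] y) ^ i := by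
        rw [eq_neg_iff_add_eq_zero, ← hg0]
        conv_rhs => rw [hg.as_sum]
        simp only [eval₂_add, eval₂_X_pow, eval₂_finsetSum, eval₂_mul, eval₂_C, ← hn]
      rw [hsum]
      refine Submodule.neg_mem _ (Submodule.sum_mem _ fun i hi => ?_)
      rw [Algebra.TensorProduct.algebraMap_apply, Algebra.TensorProduct.tmul_pow,
        Algebra.TensorProduct.tmul_mul_tmul, one_mul]
      refine ⟨(algebraMap B B (g.coeff i) * σ ^ i) ⊗ₜ ⟨y ^ i, Submodule.subset_span
        ⟨⟨i, Finset.mem_range.1 hi⟩, rfl⟩⟩, ?_⟩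
      simp
    -- in `B ⊗ (K ⧸ N)`
    let f : A →ₗ[A] K ⧸ N := N.mkQ.comp (LinearMap.toSpanSingleton A K (y ^ n))
    have hex : Function.Exact I.subtype f := by
      intro a
      simp [f, I, ← Submodule.Quotient.mk_smul, Submodule.Quotient.mk_eq_zero]
    have h0 : (f.lTensor B) ((σ ^ n) ⊗ₜ[A] (1 : A)) = 0 := by
      obtain ⟨z, hz⟩ := hT
      have : (f.lTensor B) ((σ ^ n) ⊗ₜ[A] (1 : A)) = (N.mkQ.lTensor B) ((N.subtype.lTensor B) z) := by
        rw [hz]
        simp [f]
      rw [this, ← LinearMap.comp_apply, ← LinearMap.lTensor_comp]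
      rw [show N.mkQ ∘ₗ N.subtype = 0 from LinearMap.ext fun x => by simp [Submodule.Quotient.mk_eq_zero]]
      simp
    obtain ⟨w, hw⟩ := ((Module.Flat.lTensor_exact B hex) _).1 h0
    have hkey : ∀ w : B ⊗[A] I, TensorProduct.rid A B ((I.subtype.lTensor B) w) ∈ I.map (algebraMap A B) := by
      intro w
      induction w using TensorProduct.induction_on with
      | zero => simp
      | tmul b a =>
        simp only [LinearMap.lTensor_tmul, TensorProduct.rid_tmul, Submodule.subtype_apply, Algebra.smul_def]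
        exact Ideal.mul_mem_right _ _ (Ideal.mem_map_of_mem _ a.2)
      | add x y hx hy => rw [map_add, map_add]; exact add_mem hx hy
    have := hkey w
    rw [hw] at this
    simpa using this

theorem exists_smul_isIntegral_of_tmul [Module.Flat A B] (y : K) (σ : B)
    (h : IsIntegral B (σ ⊗ₜ[A] y : B ⊗[A] K)) (Q : Ideal B) [Q.IsPrime] (hσ : σ ∉ Q) :
    ∃ s : A, s ∉ Q.under A ∧ IsIntegral A (s • y) := by
  obtain ⟨I, hI, n, hn⟩ := exists_ideal_of_isIntegral_tmul y σ h
  by_contra hcon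
  refine hσ (Ideal.IsPrime.mem_of_pow_mem inferInstance n ?_)
  refine Ideal.map_le_iff_le_comap.2 ?_ hn
  intro s hs
  by_contra h'
  exact hcon ⟨s, h', hI s hs⟩

theorem isIntegral_of_one_tmul [Module.FaithfullyFlat A B] (y : K)
    (h : IsIntegral B ((1 : B) ⊗ₜ[A] y : B ⊗[A] K)) : IsIntegral A y := by
  obtain ⟨I, hI, n, hn⟩ := exists_ideal_of_isIntegral_tmul y 1 h
  rw [one_pow] at hn
  have h1 : (1 : A) ∈ I := by
    rw [← Ideal.comap_map_eq_self_of_faithfullyFlat (B := B) I, Ideal.mem_comap, map_one]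
    exact hn
  simpa using hI 1 h1

end Groth.Agent.MoriNagata
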