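import Mathlib
import Groth.Agent.MoriNagata.Contract

/-!
# The components of a flat Noetherian extension of a domain
-/

set_option autoImplicit false
set_option linter.style.haveILetI false
set_option linter.overlappingInstances false
set_option linter.unusedSectionVars false

namespace Groth.Agent.MoriNagata

open TensorProduct Polynomial nonZeroDivisors

universe u

instance minimalPrimes_isPrime {B : Type u} [CommRing B] (p : minimalPrimes B) : p.1.IsPrime :=
  p.2.1.1

/-- The fraction field of a component. -/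
abbrev Comp {B : Type u} [CommRing B] (p : minimalPrimes B) : Type u := FractionRing (B ⧸ p.1)

variable {A : Type u} [CommRing A] [IsDomain A] {B : Type u} [CommRing B] [Algebra A B]
  [Module.Flat A B] {K : Type u} [Field K] [Algebra A K] [IsFractionRing A K]

theorem algebraMap_comp_injective (p : minimalPrimes B) :
    Function.Injective (algebraMap A (Comp p)) := by
  rw [injective_iff_map_eq_zero]
  intro a ha
  by_contra h0
  have hreg : algebraMap A B a ∈ B⁰ := by
    have h1 : IsSMulRegular A a := fun x y hxy => mul_left_cancel₀ h0 hxy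
    have h2 := IsSMulRegular.of_flat (S := B) h1
    rw [mem_nonZeroDivisors_iff_right]
    intro x hx
    exact h2 (show algebraMap A B a • x = algebraMap A B a • 0 by rw [smul_zero, smul_eq_mul, mul_comm, hx])
  refine notMem_nonZeroDivisors_of_mem_mem_minimalPrimes ?_ p.2 hreg
  rw [IsScalarTower.algebraMap_apply A (B ⧸ p.1) (Comp p),
    map_eq_zero_iff _ (IsFractionRing.injective (B ⧸ p.1) (Comp p)),
    IsScalarTower.algebraMap_apply A B (B ⧸ p.1), Ideal.Quotient.algebraMap_eq,
    Ideal.Quotient.eq_zero_iff_mem] at ha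
  exact ha

variable (A) in
/-- `K` inside the fraction field of a component. -/
noncomputable def compMap (p : minimalPrimes B) : K →ₐ[A] Comp p :=
  IsFractionRing.liftAlgHom (g := Algebra.ofId A (Comp p)) (algebraMap_comp_injective p)

variable (A) in
/-- `B ⊗ K` to the fraction field of a component. -/
noncomputable def tensorMap (p : minimalPrimes B) : B ⊗[A] K →ₐ[B] Comp p :=
  Algebra.TensorProduct.lift (Algebra.ofId B (Comp p)) (compMap A p) fun _ _ => Commute.all _ _

@[simp]
theorem tensorMap_tmul (p : minimalPrimes B) (b : B) (y : K) :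
    tensorMap A p (b ⊗ₜ[A] y) = algebraMap B (Comp p) b * compMap A p y := by
  simp [tensorMap]

theorem exists_denominator (t : B ⊗[A] K) :
    ∃ (a : A) (b : B), a ≠ 0 ∧ a • t = b ⊗ₜ[A] 1 := by
  induction t using TensorProduct.induction_on with
  | zero => exact ⟨1, 0, one_ne_zero, by simp⟩
  | tmul b y =>
    obtain ⟨⟨r, s⟩, h⟩ := IsLocalization.surj A⁰ y
    refine ⟨s, r • b, nonZeroDivisors.coe_ne_zero s, ?_⟩
    rw [TensorProduct.smul_tmul', TensorProduct.smul_tmul, TensorProduct.smul_tmul]
    congr 1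
    rw [Algebra.smul_def, Algebra.smul_def, mul_one, mul_comm]
    exact h
  | add x y hx hy =>
    obtain ⟨a, b, ha, h⟩ := hx
    obtain ⟨a', b', ha', h'⟩ := hy
    refine ⟨a * a', a' • b + a • b', mul_ne_zero ha ha', ?_⟩
    rw [smul_add, TensorProduct.add_tmul, mul_comm, mul_smul, h, mul_comm, mul_smul, h',
      TensorProduct.smul_tmul', TensorProduct.smul_tmul']

theorem isNilpotent_of_tensorMap_eq_zero (t : B ⊗[A] K) (h : ∀ p : minimalPrimes B, tensorMap A p t = 0) :
    IsNilpotent t := by
  obtain ⟨a, b, ha, hab⟩ := exists_denominator t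
  have hb : IsNilpotent b := by
    rw [← mem_nilradical, nilradical, ← Ideal.sInf_minimalPrimes, Ideal.mem_sInf]
    intro p hp
    have h1 := congrArg (tensorMap A ⟨p, hp⟩) hab
    rw [← algebraMap_smul B a t, map_smul, h, smul_zero, tensorMap_tmul, map_one, mul_one,
      IsScalarTower.algebraMap_apply B (B ⧸ p) (Comp ⟨p, hp⟩), eq_comm,
      map_eq_zero_iff _ (IsFractionRing.injective (B ⧸ p) (Comp ⟨p, hp⟩)),
      Ideal.Quotient.algebraMap_eq, Ideal.Quotient.eq_zero_iff_mem] at h1
    exact h1
  have ht : t = ((1 : B) ⊗ₜ[A] (algebraMap A K a)⁻¹) * (b ⊗ₜ[A] 1) := by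
    rw [← hab, mul_smul_comm, ← smul_mul_assoc, ← TensorProduct.tmul_smul, Algebra.smul_def,
      mul_inv_cancel₀ ((map_ne_zero_iff _ (IsFractionRing.injective A K)).2 ha),
      ← Algebra.TensorProduct.one_def, one_mul]
  rw [ht]
  refine Commute.isNilpotent_mul_left (Commute.all _ _) ?_
  have := hb.map (algebraMap B (B ⊗[A] K))
  rwa [Algebra.TensorProduct.algebraMap_apply, Algebra.algebraMap_self_apply] at this

theorem isIntegral_tmul [IsNoetherianRing B] (y : K) (σ : B)
    (h : ∀ p : minimalPrimes B, IsIntegral B (algebraMap B (Comp p) σ * compMap A p y)) :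
    IsIntegral B (σ ⊗ₜ[A] y : B ⊗[A] K) := by
  classical
  haveI : Finite (minimalPrimes B) := (minimalPrimes.finite_of_isNoetherianRing B).to_subtype
  haveI := Fintype.ofFinite (minimalPrimes B)
  choose g hg hg0 using h
  obtain ⟨N, hN⟩ : IsNilpotent (aeval (σ ⊗ₜ[A] y : B ⊗[A] K) (∏ p, g p)) := by
    refine isNilpotent_of_tensorMap_eq_zero _ fun p => ?_
    rw [← aeval_algHom_apply, tensorMap_tmul, map_prod]
    exact Finset.prod_eq_zero (Finset.mem_univ p) (hg0 p)
  refine ⟨(∏ p, g p) ^ N, (monic_prod_of_monic _ _ fun p _ => hg p).pow N, ?_⟩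
  rw [← aeval_def, map_pow, hN]

/-- Local version: one denominator outside a prime. -/
theorem exists_smul_isIntegral [IsNoetherianRing B] (y : K) (σ : B)
    (h : ∀ p : minimalPrimes B, IsIntegral B (algebraMap B (Comp p) σ * compMap A p y))
    (Q : Ideal B) [Q.IsPrime] (hσ : σ ∉ Q) :
    ∃ s : A, s ∉ Q.under A ∧ IsIntegral A (s • y) :=
  exists_smul_isIntegral_of_tmul y σ (isIntegral_tmul y σ h) Q hσ

theorem isIntegral_iff_comp [IsNoetherianRing B] [Module.FaithfullyFlat A B] (y : K) :
    IsIntegral A y ↔ ∀ p : minimalPrimes B, IsIntegral (B ⧸ p.1) (compMap A p y) := by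
  refine ⟨fun h p => (h.map (compMap A p)).tower_top, fun h => ?_⟩
  refine isIntegral_of_one_tmul (B := B) y (isIntegral_tmul y 1 fun p => ?_)
  rw [map_one, one_mul]
  exact isIntegral_trans (R := B) _ (h p)

end Groth.Agent.MoriNagata
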