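import Mathlib
import Groth.Agent.MoriNagata.Components

/-!
# Finiteness of the fibres of the integral closure
-/

set_option autoImplicit false
set_option linter.style.haveILetI false
set_option linter.overlappingInstances false
set_option linter.unusedSectionVars false

namespace Groth.Agent.MoriNagata

open TensorProduct

universe u

variable {A : Type u} [CommRing A] [IsDomain A] {B : Type u} [CommRing B] [Algebra A B]
  [Module.Flat A B] {K : Type u} [Field K] [Algebra A K] [IsFractionRing A K]

/-- The normalisation of a component. -/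
noncomputable abbrev CompInt (p : minimalPrimes B) : Subalgebra (B ⧸ p.1) (Comp p) :=
  integralClosure (B ⧸ p.1) (Comp p)

theorem compMap_mem (p : minimalPrimes B) (c : integralClosure A K) :
    compMap A p (c : K) ∈ CompInt p :=
  (c.2.map (compMap A p)).tower_top

variable (A) in
/-- The integral closure of `A` maps to the normalisation of each component. -/
noncomputable def toCompInt (p : minimalPrimes B) : integralClosure A K →+* CompInt p :=
  ((compMap A p).toRingHom.comp (integralClosure A K).val.toRingHom).codRestrict _ (compMap_mem p)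

theorem finite_primes_over [IsNoetherianRing B] [Module.FaithfullyFlat A B]
    (hN : ∀ p : minimalPrimes B, Module.Finite (B ⧸ p.1) (CompInt p)) (q : Ideal A) [q.IsPrime] :
    {P : Ideal (integralClosure A K) | P.IsPrime ∧ P.under A = q}.Finite := by
  classical
  haveI : Finite (minimalPrimes B) := (minimalPrimes.finite_of_isNoetherianRing B).to_subtype
  haveI := Fintype.ofFinite (minimalPrimes B)
  obtain ⟨⟨Q, hQp⟩, hQ⟩ := PrimeSpectrum.comap_surjective_of_faithfullyFlat (A := A) (B := B) ⟨q, ‹_›⟩
  have hQ' : Q.under A = q := congrArg PrimeSpectrum.asIdeal hQ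
  haveI : Q.IsPrime := hQp
  haveI : Q.LiesOver q := ⟨hQ'.symm⟩
  let S : minimalPrimes B → Set (Ideal (integralClosure A K)) := fun p =>
    Ideal.comap (toCompInt A p) '' (Q.primesOver (CompInt p))
  have hS : ∀ p, (S p).Finite := fun p => by
    haveI := hN p
    haveI : Module.Finite B (CompInt p) := Module.Finite.trans (B ⧸ p.1) (CompInt p)
    exact (Algebra.QuasiFinite.finite_primesOver Q).image _
  refine (Set.finite_iUnion hS).subset ?_
  rintro P ⟨hP, hPq⟩
  haveI := hP
  haveI : P.LiesOver q := ⟨hPq.symm⟩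
  let E := AlgebraicClosure (FractionRing (B ⧸ Q))
  have hBE : ∀ b : B, algebraMap B E b = 0 ↔ b ∈ Q := fun b => by
    rw [IsScalarTower.algebraMap_apply B (B ⧸ Q) E, IsScalarTower.algebraMap_apply (B ⧸ Q)
      (FractionRing (B ⧸ Q)) E, map_eq_zero_iff _ (RingHom.injective _),
      map_eq_zero_iff _ (IsFractionRing.injective _ _), Ideal.Quotient.algebraMap_eq,
      Ideal.Quotient.eq_zero_iff_mem]
  haveI : Module.IsTorsionFree (A ⧸ q) E := by
    rw [Module.isTorsionFree_iff_algebraMap_injective]
    rw [IsScalarTower.algebraMap_eq (A ⧸ q) (B ⧸ Q) E, RingHom.coe_comp]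
    refine Function.Injective.comp ?_ (FaithfulSMul.algebraMap_injective (A ⧸ q) (B ⧸ Q))
    rw [IsScalarTower.algebraMap_eq (B ⧸ Q) (FractionRing (B ⧸ Q)) E, RingHom.coe_comp]
    exact (RingHom.injective _).comp (IsFractionRing.injective _ _)
  haveI : Algebra.IsIntegral A (integralClosure A K ⧸ P) :=
    ⟨fun z => by
      obtain ⟨c, rfl⟩ := Ideal.Quotient.mk_surjective z
      exact (Algebra.IsIntegral.isIntegral c).map (Ideal.Quotient.mkₐ A P)⟩
  haveI : Algebra.IsIntegral (A ⧸ q) (integralClosure A K ⧸ P) := Algebra.IsIntegral.tower_top A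
  haveI : Algebra.IsAlgebraic (A ⧸ q) (integralClosure A K ⧸ P) := Algebra.IsIntegral.isAlgebraic
  haveI : Module.IsTorsionFree (A ⧸ q) (integralClosure A K ⧸ P) :=
    Module.isTorsionFree_iff_algebraMap_injective.2 (FaithfulSMul.algebraMap_injective _ _)
  let g : (integralClosure A K ⧸ P) →ₐ[A ⧸ q] E := IsAlgClosed.lift
  have hg : Function.Injective g := by
    rw [injective_iff_map_eq_zero]
    intro z hz
    have : RingHom.ker g = ⊥ := by
      refine Ideal.eq_bot_of_comap_eq_bot (R := A ⧸ q) ?_
      refine eq_bot_iff.2 fun x hx => ?_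
      rw [Ideal.mem_comap, RingHom.mem_ker, AlgHom.commutes] at hx
      rw [Ideal.mem_bot]
      exact (map_eq_zero_iff _ ((Module.isTorsionFree_iff_algebraMap_injective).1 ‹_›)).1 hx
    simpa using (this ▸ (RingHom.mem_ker.2 hz) : z ∈ (⊥ : Ideal _))
  let g' : integralClosure A K →ₐ[A] E := (g.restrictScalars A).comp (Ideal.Quotient.mkₐ A P)
  have hg' : ∀ c, g' c = 0 ↔ c ∈ P := fun c => by
    rw [← Ideal.Quotient.eq_zero_iff_mem]
    exact map_eq_zero_iff g hg
  let Φ : B ⊗[A] integralClosure A K →ₐ[A] E :=
    Algebra.TensorProduct.lift (IsScalarTower.toAlgHom A B E) g' fun _ _ => Commute.all _ _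
  haveI : (RingHom.ker Φ).IsPrime := RingHom.ker_isPrime _
  let ι : B ⊗[A] integralClosure A K →ₐ[B] B ⊗[A] K :=
    Algebra.TensorProduct.map (AlgHom.id B B) (integralClosure A K).val
  have hι : Function.Injective ι := Module.Flat.lTensor_preserves_injective_linearMap
    (integralClosure A K).val.toLinearMap Subtype.val_injective
  have hle : Finset.univ.inf (fun p => RingHom.ker ((tensorMap A p).comp ι)) ≤ RingHom.ker Φ := by
    intro u hu
    rw [Submodule.mem_finsetInf] at hu
    have h1 : IsNilpotent (ι u) := isNilpotent_of_tensorMap_eq_zero _ fun p => hu p (Finset.mem_univ p)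
    rw [IsNilpotent.map_iff hι] at h1
    exact (h1.map Φ).eq_zero
  obtain ⟨p, -, hp⟩ := (Ideal.IsPrime.inf_le' ‹_›).1 hle
  have hmem : ∀ u : B ⊗[A] integralClosure A K, tensorMap A p (ι u) ∈ CompInt p := by
    intro u
    induction u using TensorProduct.induction_on with
    | zero => rw [map_zero, map_zero]; exact zero_mem _
    | tmul b c =>
      rw [show ι (b ⊗ₜ c) = b ⊗ₜ (c : K) from rfl, tensorMap_tmul]
      refine mul_mem ?_ (compMap_mem p c)
      rw [IsScalarTower.algebraMap_apply B (B ⧸ p.1) (Comp p)]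
      exact Subalgebra.algebraMap_mem _ _
    | add x y hx hy => rw [map_add, map_add]; exact add_mem hx hy
  let φ : B ⊗[A] integralClosure A K →+* CompInt p :=
    ((tensorMap A p).comp ι).toRingHom.codRestrict _ hmem
  letI := φ.toAlgebra
  haveI : IsScalarTower B (B ⊗[A] integralClosure A K) (CompInt p) :=
    IsScalarTower.of_algebraMap_eq (R := B) (S := B ⊗[A] integralClosure A K) (A := CompInt p)
      fun b => Subtype.ext (((tensorMap A p).comp ι).commutes b).symm
  haveI := hN p
  haveI : Module.Finite B (CompInt p) := Module.Finite.trans (B ⧸ p.1) (CompInt p)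
  haveI : Algebra.IsIntegral (B ⊗[A] integralClosure A K) (CompInt p) := Algebra.IsIntegral.tower_top B
  obtain ⟨P'', -, hP''p, hP''⟩ := Ideal.exists_ideal_over_prime_of_isIntegral (RingHom.ker Φ)
    (⊥ : Ideal (CompInt p)) (by
      intro u hu
      refine hp ?_
      exact RingHom.mem_ker.2 (congrArg Subtype.val (Ideal.mem_bot.1 hu)))
  refine Set.mem_iUnion.2 ⟨p, P'', ⟨hP''p, ⟨?_⟩⟩, ?_⟩
  · ext b
    rw [Ideal.under_def, IsScalarTower.algebraMap_eq B (B ⊗[A] integralClosure A K) (CompInt p),
      ← Ideal.comap_comap, hP'', Ideal.mem_comap, RingHom.mem_ker, Algebra.TensorProduct.algebraMap_apply,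
      Algebra.algebraMap_self_apply, Algebra.TensorProduct.lift_tmul, map_one, mul_one]
    exact (hBE b).symm
  · ext c
    have hc : toCompInt A p c = φ ((1 : B) ⊗ₜ[A] c) := Subtype.ext (by
      show compMap A p (c : K) = tensorMap A p ((1 : B) ⊗ₜ[A] (c : K))
      rw [tensorMap_tmul, map_one, one_mul])
    rw [Ideal.mem_comap, hc, ← RingHom.algebraMap_toAlgebra φ, ← Ideal.mem_comap, hP'', RingHom.mem_ker,
      Algebra.TensorProduct.lift_tmul, map_one, one_mul]
    exact hg' c

end Groth.Agent.MoriNagata
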