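import Mathlib
import Groth.Agent.MoriNagata.Val
import Groth.Agent.MoriNagata.Fibres
import Groth.Agent.VarDim.Algebra

/-!
# The valuations coming from the components
-/

set_option autoImplicit false
set_option linter.style.haveILetI false
set_option linter.overlappingInstances false
set_option linter.unusedSectionVars false

namespace Groth.Agent.MoriNagata

universe u

section General

variable {K : Type u} [Field K]

theorem mem_nonunits_iff_inv {W : ValuationSubring K} {y : K} :
    y ∈ W.nonunits ↔ y = 0 ∨ y⁻¹ ∉ W := by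
  have h := ValuationSubring.inv_mem_nonunits_iff W (x := y⁻¹)
  rwa [inv_inv, inv_eq_zero] at h

theorem mem_nonunits_comap {L : Type u} [Field L] (j : K →+* L) (O : ValuationSubring L) {y : K} :
    y ∈ (O.comap j).nonunits ↔ j y ∈ O.nonunits := by
  rw [mem_nonunits_iff_inv, mem_nonunits_iff_inv, map_eq_zero, ← map_inv₀]
  rfl

variable {D : Type u} [CommRing D] [IsDomain D] [IsNoetherianRing D] [IsIntegrallyClosed D]
  {L : Type u} [Field L] [Algebra D L] [IsFractionRing D L]

theorem algebraMap_mem_valRing {P : Ideal D} [P.IsPrime] (hP : P.height = 1) (r : D) :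
    algebraMap D L r ∈ valRing (L := L) P hP :=
  ⟨r, 1, fun h => Ideal.IsPrime.ne_top inferInstance ((Ideal.eq_top_iff_one P).2 h), by simp⟩

theorem algebraMap_mem_nonunits_valRing {P : Ideal D} [P.IsPrime] (hP : P.height = 1) (r : D) :
    algebraMap D L r ∈ (valRing (L := L) P hP).nonunits ↔ r ∈ P := by
  rw [mem_nonunits_iff_inv, map_eq_zero_iff _ (IsFractionRing.injective D L)]
  constructor
  · rintro (rfl | h)
    · exact P.zero_mem
    · by_contra hr
      refine h ⟨1, r, hr, ?_⟩
      rw [map_one, inv_mul_cancel₀]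
      rw [Ne, map_eq_zero_iff _ (IsFractionRing.injective D L)]
      exact fun h0 => hr (h0 ▸ P.zero_mem)
  · intro hr
    refine or_iff_not_imp_left.2 fun h0 => ?_
    rintro ⟨r', s, hs, he⟩
    have hne : algebraMap D L r ≠ 0 := (map_ne_zero_iff _ (IsFractionRing.injective D L)).2 h0
    have : s = r * r' := IsFractionRing.injective D L (by
      rw [map_mul, ← he, ← mul_assoc, mul_inv_cancel₀ hne, one_mul])
    exact hs (this ▸ P.mul_mem_right _ hr)

end General

variable {A : Type u} [CommRing A] [IsDomain A] {B : Type u} [CommRing B] [Algebra A B]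
  [Module.Flat A B] {K : Type u} [Field K] [Algebra A K] [IsFractionRing A K]

instance compInt_isDomain (p : minimalPrimes B) : IsDomain (CompInt p) :=
  Subalgebra.isDomain _

instance compInt_isFractionRing (p : minimalPrimes B) : IsFractionRing (CompInt p) (Comp p) :=
  integralClosure.isFractionRing_of_finite_extension (Comp p) (Comp p)

instance compInt_isIntegrallyClosed (p : minimalPrimes B) : IsIntegrallyClosed (CompInt p) :=
  integralClosure.isIntegrallyClosedOfFiniteExtension (Comp p)

variable [IsNoetherianRing B] [hN : ∀ p : minimalPrimes B, Module.Finite (B ⧸ p.1) (CompInt p)]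

instance compInt_isNoetherianRing (p : minimalPrimes B) : IsNoetherianRing (CompInt p) :=
  IsNoetherianRing.of_finite (B ⧸ p.1) (CompInt p)

variable (A B) in
/-- A nontrivial valuation of `K` induced by a height one prime of a component. -/
def IsCompVal (W : ValuationSubring K) : Prop :=
  W ≠ ⊤ ∧ ∃ (p : minimalPrimes B) (P : Ideal (CompInt p)) (_ : P.IsPrime) (hP : P.height = 1),
    W = (valRing (L := Comp p) P hP).comap (compMap A p).toRingHom

theorem IsCompVal.isDiscrete {W : ValuationSubring K} (h : IsCompVal A B W) : IsDiscrete W := by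
  obtain ⟨hne, p, P, hPp, hP, rfl⟩ := h
  exact isDiscrete_comap _ _ (isDiscrete_valRing P hP) hne

theorem isIntegral_iff_compVal [Module.FaithfullyFlat A B] (y : K) :
    IsIntegral A y ↔ ∀ W : ValuationSubring K, IsCompVal A B W → y ∈ W := by
  constructor
  · rintro h W ⟨-, p, P, hPp, hP, rfl⟩
    exact algebraMap_mem_valRing hP ⟨compMap A p y, (h.map (compMap A p)).tower_top⟩
  · intro h
    rw [isIntegral_iff_comp (B := B)]
    intro p
    by_contra hy
    obtain ⟨P, hPp, hP, hyP⟩ := exists_heightOne_notMem (D := CompInt p) (y := compMap A p y) (by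
      rintro ⟨⟨z, hz⟩, hzy⟩
      exact hy (by rwa [← hzy]))
    refine hyP (h ((valRing (L := Comp p) P hP).comap (compMap A p).toRingHom) ⟨?_, p, P, hPp, hP, rfl⟩)
    intro htop
    exact hyP (show y ∈ (valRing (L := Comp p) P hP).comap (compMap A p).toRingHom by
      rw [htop]; trivial)

theorem finite_compVal_notMem (y : K) :
    {W : ValuationSubring K | IsCompVal A B W ∧ y ∉ W}.Finite := by
  classical
  haveI : Finite (minimalPrimes B) := (minimalPrimes.finite_of_isNoetherianRing B).to_subtype
  let F : (p : minimalPrimes B) → Ideal (CompInt p) → ValuationSubring K := fun p P =>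
    if h : ∃ (_ : P.IsPrime), P.height = 1 then
      (@valRing _ _ _ _ _ (Comp p) _ _ _ P h.1 h.2).comap (compMap A p).toRingHom else ⊤
  have hfin : ∀ p : minimalPrimes B, (F p '' {P : Ideal (CompInt p) | ∃ (_ : P.IsPrime) (hP : P.height = 1),
      compMap A p y ∉ valRing (L := Comp p) P hP}).Finite := fun p =>
    (finite_heightOne_notMem (D := CompInt p) (L := Comp p) (compMap A p y)).image (F p)
  refine (Set.finite_iUnion hfin).subset ?_
  rintro W ⟨⟨-, p, P, hPp, hP, rfl⟩, hy⟩
  refine Set.mem_iUnion.2 ⟨p, P, ⟨hPp, hP, hy⟩, ?_⟩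
  simp only [F, dif_pos (show ∃ (_ : P.IsPrime), P.height = 1 from ⟨hPp, hP⟩)]

theorem exists_conductor (p : minimalPrimes B) :
    ∃ c : B, c ∉ p.1 ∧ (∀ p' : minimalPrimes B, p' ≠ p → c ∈ p'.1) ∧
      ∀ r : CompInt p, ∃ b : B, algebraMap B (Comp p) b = algebraMap B (Comp p) c * r := by
  classical
  haveI : Finite (minimalPrimes B) := (minimalPrimes.finite_of_isNoetherianRing B).to_subtype
  haveI := Fintype.ofFinite (minimalPrimes B)
  have he : ∀ p' : minimalPrimes B, ∃ e : B, e ∉ p.1 ∧ (p' ≠ p → e ∈ p'.1) := by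
    intro p'
    by_cases hp : p' = p
    · exact ⟨1, fun h => Ideal.IsPrime.ne_top inferInstance ((Ideal.eq_top_iff_one _).2 h),
        fun h => (h hp).elim⟩
    · have : ¬ p'.1 ≤ p.1 := fun hle =>
        hp (Subtype.ext (le_antisymm hle (p.2.2 ⟨inferInstance, bot_le⟩ hle)))
      obtain ⟨e, he1, he2⟩ := SetLike.not_le_iff_exists.1 this
      exact ⟨e, he2, fun _ => he1⟩
  choose e he1 he2 using he
  have hfg : (Subalgebra.toSubmodule (CompInt p)).FG := Module.Finite.iff_fg.1 (hN p)
  obtain ⟨d, hd, hdr⟩ := FractionalIdeal.isFractional_of_fg (S := nonZeroDivisors (B ⧸ p.1)) hfg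
  obtain ⟨c0, rfl⟩ := Ideal.Quotient.mk_surjective d
  have hc0 : c0 ∉ p.1 := fun h => nonZeroDivisors.ne_zero hd (Ideal.Quotient.eq_zero_iff_mem.2 h)
  refine ⟨c0 * ∏ p', e p', fun h => ?_, fun p' hp' => Ideal.mul_mem_left _ _
    (Ideal.mem_of_dvd _ (Finset.dvd_prod_of_mem e (Finset.mem_univ p')) (he2 p' hp')), fun r => ?_⟩
  · rcases Ideal.IsPrime.mem_or_mem inferInstance h with h | h
    · exact hc0 h
    · obtain ⟨i, -, hi⟩ := Ideal.IsPrime.prod_mem_iff.1 h
      exact he1 i hi
  · obtain ⟨z, hz⟩ := hdr (r : Comp p) r.2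
    obtain ⟨b, rfl⟩ := Ideal.Quotient.mk_surjective z
    refine ⟨b * ∏ p', e p', ?_⟩
    have hz' : algebraMap B (Comp p) b = algebraMap B (Comp p) c0 * r := by
      rw [IsScalarTower.algebraMap_apply B (B ⧸ p.1) (Comp p), Ideal.Quotient.algebraMap_eq, hz,
        Algebra.smul_def, IsScalarTower.algebraMap_apply B (B ⧸ p.1) (Comp p),
        Ideal.Quotient.algebraMap_eq]
    rw [map_mul, map_mul, hz']; ring

variable (A) in
/-- A valuation which is the integral closure localised at a height one prime of `A`. -/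
def IsGoodVal (W : ValuationSubring K) : Prop :=
  ∃ q : Ideal A, q.IsPrime ∧ q.height = 1 ∧ (∀ a : A, a ∈ q ↔ algebraMap A K a ∈ W.nonunits) ∧
    ∀ y ∈ W, ∃ s : A, s ∉ q ∧ IsIntegral A (s • y)

theorem isGoodVal_of_notMem (p : minimalPrimes B) (c : B) (hcp : c ∉ p.1)
    (hco : ∀ p' : minimalPrimes B, p' ≠ p → c ∈ p'.1)
    (hcr : ∀ r : CompInt p, ∃ b : B, algebraMap B (Comp p) b = algebraMap B (Comp p) c * r)
    (P : Ideal (CompInt p)) [P.IsPrime] (hP : P.height = 1) (hcP : algebraMap B (CompInt p) c ∉ P)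
    (hne : (valRing (L := Comp p) P hP).comap (compMap A p).toRingHom ≠ (⊤ : ValuationSubring K)) :
    IsGoodVal A ((valRing (L := Comp p) P hP).comap (compMap A p).toRingHom : ValuationSubring K) := by
  classical
  set Q : Ideal B := P.comap (algebraMap B (CompInt p)) with hQdef
  haveI : Q.IsPrime := Ideal.IsPrime.comap _
  have hcoe : ∀ b : B, ((algebraMap B (CompInt p) b : CompInt p) : Comp p) = algebraMap B (Comp p) b :=
    fun b => rfl
  have hzero : ∀ b : B, algebraMap B (Comp p) b = 0 ↔ b ∈ p.1 := fun b => by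
    rw [IsScalarTower.algebraMap_apply B (B ⧸ p.1) (Comp p),
      map_eq_zero_iff _ (IsFractionRing.injective _ _), Ideal.Quotient.algebraMap_eq,
      Ideal.Quotient.eq_zero_iff_mem]
  have hcQ : c ∉ Q := hcP
  have hjA : ∀ a : A, compMap A p (algebraMap A K a) =
      algebraMap (CompInt p) (Comp p) (algebraMap B (CompInt p) (algebraMap A B a)) := fun a => by
    rw [AlgHom.commutes, IsScalarTower.algebraMap_apply A B (Comp p)]
    rfl
  have hmem : ∀ a : A, a ∈ Q.under A ↔
      algebraMap A K a ∈ ((valRing (L := Comp p) P hP).comap (compMap A p).toRingHom).nonunits := by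
    intro a
    rw [mem_nonunits_comap, AlgHom.toRingHom_eq_coe, RingHom.coe_coe, hjA,
      algebraMap_mem_nonunits_valRing]
    rfl
  have hloc : ∀ y : K, y ∈ (valRing (L := Comp p) P hP).comap (compMap A p).toRingHom →
      ∃ s : A, s ∉ Q.under A ∧ IsIntegral A (s • y) := by
    intro y hy
    obtain ⟨r, s, hs, hrs⟩ := hy
    obtain ⟨b, hb⟩ := hcr s
    have hbQ : b ∉ Q := by
      intro h
      have : algebraMap B (CompInt p) b = algebraMap B (CompInt p) c * s := Subtype.ext hb
      rw [hQdef, Ideal.mem_comap, this] at h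
      exact (Ideal.IsPrime.mem_or_mem inferInstance h).elim hcP hs
    refine exists_smul_isIntegral y (c * b) (fun p' => ?_) Q
      (fun h => (Ideal.IsPrime.mem_or_mem inferInstance h).elim hcQ hbQ)
    by_cases hp' : p' = p
    · subst hp'
      have h1 : algebraMap B (Comp p') (c * b) * compMap A p' y =
          algebraMap B (Comp p') c * algebraMap B (Comp p') c * (r : Comp p') := by
        rw [map_mul, hb]
        have h2 : compMap A p' y * (s : Comp p') = (r : Comp p') := hrs
        rw [← h2]; ring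
      rw [h1]
      refine (isIntegral_algebraMap.mul isIntegral_algebraMap).mul ?_
      exact isIntegral_trans (R := B) _ r.2
    · rw [show algebraMap B (Comp p') (c * b) = 0 by
        rw [IsScalarTower.algebraMap_apply B (B ⧸ p'.1) (Comp p'), Ideal.Quotient.algebraMap_eq,
          Ideal.Quotient.eq_zero_iff_mem.2 (Ideal.mul_mem_right _ _ (hco p' hp')), map_zero], zero_mul]
      exact isIntegral_zero
  have hQ1 : Q.height ≤ (1 : ℕ) := by
    rw [Ideal.height_le_iff]
    intro Q' hQ'p hQ'lt
    have hcQ' : c ∉ Q' := fun h => hcQ (hQ'lt.le h)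
    have hpQ' : p.1 ≤ Q' := by
      obtain ⟨m, hm, hmQ⟩ := Ideal.exists_minimalPrimes_le (I := (⊥ : Ideal B)) (J := Q') bot_le
      by_contra hh
      exact hcQ' (hmQ (hco ⟨m, hm⟩ fun he => hh (by rw [← he]; exact hmQ)))
    have hrep : ∀ {b b' : B}, algebraMap B (Comp p) b = algebraMap B (Comp p) b' → b' ∈ Q' → b ∈ Q' := by
      intro b b' h hb'
      have : b - b' ∈ p.1 := (hzero _).1 (by rw [map_sub, h, sub_self])
      simpa using Q'.add_mem (hpQ' this) hb'
    let P' : Ideal (CompInt p) :=
      { carrier := {r | ∃ b ∈ Q', algebraMap B (Comp p) b = algebraMap B (Comp p) c * r}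
        zero_mem' := ⟨0, Q'.zero_mem, by simp⟩
        add_mem' := by
          rintro x y ⟨b, hb, h⟩ ⟨b', hb', h'⟩
          exact ⟨b + b', Q'.add_mem hb hb', by rw [map_add, h, h']; push_cast; ring⟩
        smul_mem' := by
          rintro x r ⟨b, hb, h⟩
          obtain ⟨bx, hbx⟩ := hcr x
          obtain ⟨b3, hb3⟩ := hcr (x * r)
          refine ⟨b3, ?_, by rw [hb3]; rfl⟩
          refine (Ideal.IsPrime.mem_or_mem hQ'p (hrep (b := c * b3) (b' := bx * b) ?_
            (Q'.mul_mem_left _ hb))).resolve_left hcQ'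
          rw [map_mul, map_mul, hb3, hbx, h]; push_cast; ring }
    haveI hP' : P'.IsPrime := by
      refine ⟨fun htop => ?_, ?_⟩
      · obtain ⟨b, hb, h⟩ : (1 : CompInt p) ∈ P' := htop ▸ Submodule.mem_top
        exact hcQ' (hrep (by rw [h]; simp) hb)
      · rintro x y ⟨b, hb, h⟩
        obtain ⟨bx, hbx⟩ := hcr x
        obtain ⟨bw, hbw⟩ := hcr y
        have : bx * bw ∈ Q' := hrep (b' := c * b) (by rw [map_mul, map_mul, hbx, hbw, h]; push_cast; ring)
          (Q'.mul_mem_left _ hb)
        rcases Ideal.IsPrime.mem_or_mem hQ'p this with hx | hy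
        · exact Or.inl ⟨bx, hx, hbx⟩
        · exact Or.inr ⟨bw, hy, hbw⟩
    have hle : P' ≤ P := by
      rintro r ⟨b, hb, h⟩
      have : algebraMap B (CompInt p) b = algebraMap B (CompInt p) c * r := Subtype.ext h
      have hbP : algebraMap B (CompInt p) b ∈ P := hQ'lt.le hb
      rw [this] at hbP
      exact (Ideal.IsPrime.mem_or_mem inferInstance hbP).resolve_left hcP
    obtain ⟨b, hbQ, hbQ'⟩ := SetLike.exists_of_lt hQ'lt
    have hlt : P' < P := by
      refine lt_of_le_of_ne hle fun he => hbQ' ?_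
      obtain ⟨b3, hb3, h⟩ : algebraMap B (CompInt p) b ∈ P' := he ▸ hbQ
      refine (Ideal.IsPrime.mem_or_mem hQ'p (hrep (b := c * b) (b' := b3) ?_ hb3)).resolve_left hcQ'
      rw [h, map_mul]; rfl
    have hbot : P' = ⊥ := by
      rw [← Ideal.height_eq_zero_iff_eq_bot]
      have := Ideal.height_le_iff.1 (hP.le.trans (le_refl ((1 : ℕ) : ℕ∞))) P' hP' hlt
      exact ENat.lt_one_iff_eq_zero.1 (by simpa using this)
    have hQ'le : Q' ≤ p.1 := fun x hx => (hzero x).1 (by
      have : algebraMap B (CompInt p) x ∈ P' := ⟨c * x, Q'.mul_mem_left _ hx, by rw [map_mul]; rfl⟩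
      rw [hbot, Ideal.mem_bot] at this
      exact congrArg Subtype.val this)
    rw [le_antisymm hQ'le hpQ', show p.1.height = 0 from Ideal.height_eq_zero_iff.2 p.2]
    norm_num
  refine ⟨Q.under A, inferInstance, le_antisymm ?_ (ENat.one_le_iff_ne_zero.2 fun h => hne ?_), hmem, hloc⟩
  · haveI : Algebra.HasGoingDown A B := Algebra.HasGoingDown.of_flat
    exact (VarDim.height_under_le_of_hasGoingDown Q).trans (by exact_mod_cast hQ1)
  · rw [Ideal.height_eq_zero_iff_eq_bot] at h
    refine eq_top_iff.2 fun y _ => ?_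
    obtain ⟨⟨r, s⟩, hy⟩ := IsLocalization.surj (nonZeroDivisors A) y
    have hs : algebraMap A K (s : A) ∉
        ((valRing (L := Comp p) P hP).comap (compMap A p).toRingHom).nonunits := by
      rw [← hmem, h, Ideal.mem_bot]; exact nonZeroDivisors.coe_ne_zero s
    have hs0 : algebraMap A K (s : A) ≠ 0 :=
      (map_ne_zero_iff _ (IsFractionRing.injective A K)).2 (nonZeroDivisors.coe_ne_zero s)
    rw [mem_nonunits_iff_inv, not_or, not_not] at hs
    have hr : algebraMap A K r ∈ (valRing (L := Comp p) P hP).comap (compMap A p).toRingHom := by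
      rw [ValuationSubring.mem_comap, AlgHom.toRingHom_eq_coe, RingHom.coe_coe, hjA]
      exact algebraMap_mem_valRing hP _
    have h2 := ValuationSubring.mul_mem _ _ _ hr hs.2
    simp only at hy
    rwa [← hy, mul_assoc, mul_inv_cancel₀ hs0, mul_one] at h2

theorem finite_compVal_not_good : {W : ValuationSubring K | IsCompVal A B W ∧ ¬ IsGoodVal A W}.Finite := by
  classical
  haveI : Finite (minimalPrimes B) := (minimalPrimes.finite_of_isNoetherianRing B).to_subtype
  choose c hcp hco hcr using fun p : minimalPrimes B => exists_conductor p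
  let F : (p : minimalPrimes B) → Ideal (CompInt p) → ValuationSubring K := fun p P =>
    if h : ∃ (_ : P.IsPrime), P.height = 1 then
      (@valRing _ _ _ _ _ (Comp p) _ _ _ P h.1 h.2).comap (compMap A p).toRingHom else ⊤
  refine (Set.finite_iUnion fun p => ((Ideal.span {algebraMap B (CompInt p) (c p)}).finite_minimalPrimes_of_isNoetherianRing
    (CompInt p)).image (F p)).subset ?_
  rintro W ⟨⟨hne, p, P, hPp, hP, rfl⟩, hbad⟩
  have hc : algebraMap B (CompInt p) (c p) ∈ P := by
    by_contra hc
    exact hbad (isGoodVal_of_notMem p (c p) (hcp p) (hco p) (hcr p) P hP hc hne)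
  refine Set.mem_iUnion.2 ⟨p, P, ?_, by
    simp only [F, dif_pos (show ∃ (_ : P.IsPrime), P.height = 1 from ⟨hPp, hP⟩)]⟩
  have hc0 : algebraMap B (CompInt p) (c p) ≠ 0 := fun h => hcp p (by
    have h' := congrArg Subtype.val h
    change algebraMap B (Comp p) (c p) = 0 at h'
    rwa [IsScalarTower.algebraMap_apply B (B ⧸ p.1) (Comp p),
      map_eq_zero_iff _ (IsFractionRing.injective _ _), Ideal.Quotient.algebraMap_eq,
      Ideal.Quotient.eq_zero_iff_mem] at h')
  refine Ideal.mem_minimalPrimes_of_height_le (by rwa [Ideal.span_singleton_le_iff_mem]) ?_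
  rw [hP, Ideal.height_span_singleton_eq_one_of_mem_nonZeroDivisors (mem_nonZeroDivisors_of_ne_zero hc0)]
  exact fun hu => hPp.ne_top (Ideal.eq_top_of_isUnit_mem _ hc hu)

end Groth.Agent.MoriNagata
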