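import Mathlib
import Groth.Agent.MoriNagata.CompVal

/-!
# Mori–Nagata: the integral closure is a Krull domain
-/

set_option autoImplicit false
set_option linter.style.haveILetI false
set_option linter.unusedSectionVars false

namespace Groth.Agent.MoriNagata

open IsLocalRing

universe u

section Val

variable {K : Type u} [Field K] {W : ValuationSubring K}

theorem mul_mem_nonunits {a b : K} (ha : a ∈ W.nonunits) (hb : b ∈ W) : a * b ∈ W.nonunits :=
  (ValuationSubring.coe_mem_nonunits_iff (A := W)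
    (a := (⟨a, ValuationSubring.nonunits_subset ha⟩ * ⟨b, hb⟩ : W))).2
    (Ideal.mul_mem_right _ _ ((ValuationSubring.coe_mem_nonunits_iff (A := W)).1 ha))

theorem exists_centre {A : Type u} [CommRing A] [Algebra A K] (S : Subalgebra A K)
    (h : ∀ c : S, (c : K) ∈ W) :
    ∃ P : Ideal S, P.IsPrime ∧ ∀ c : S, c ∈ P ↔ (c : K) ∈ W.nonunits :=
  ⟨(maximalIdeal W).comap (S.val.toRingHom.codRestrict W.toSubring h), Ideal.IsPrime.comap _,
    fun c => (ValuationSubring.coe_mem_nonunits_iff (A := W) (a := ⟨(c : K), h c⟩)).symm⟩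

theorem pow_mem_nonunits {a : K} (ha : a ∈ W.nonunits) : ∀ {n : ℕ}, 0 < n → a ^ n ∈ W.nonunits
  | n + 1, _ => by
    rw [pow_succ']
    exact mul_mem_nonunits ha (pow_mem (ValuationSubring.nonunits_subset ha) n)

theorem mul_notMem_nonunits {a b : K} (ha : a ∈ W) (hb : b ∈ W) (ha' : a ∉ W.nonunits)
    (hb' : b ∉ W.nonunits) : a * b ∉ W.nonunits := by
  intro h
  rcases (maximalIdeal.isMaximal W).isPrime.mem_or_mem
    ((ValuationSubring.coe_mem_nonunits_iff (A := W) (a := ⟨a, ha⟩ * ⟨b, hb⟩)).1 h) with h1 | h1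
  · exact ha' ((ValuationSubring.coe_mem_nonunits_iff (A := W)).2 h1)
  · exact hb' ((ValuationSubring.coe_mem_nonunits_iff (A := W)).2 h1)

end Val

/-- The main construction, from a family of discrete valuation rings cutting out the integral
closure. -/
theorem exists_finite_subalgebra {A : Type u} [CommRing A] [IsDomain A] {K : Type u} [Field K]
    [Algebra A K] [IsFractionRing A K] (F : Set (ValuationSubring K))
    (hcut : ∀ y : K, IsIntegral A y ↔ ∀ W ∈ F, y ∈ W) (hdisc : ∀ W ∈ F, IsDiscrete W)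
    (hne : ∀ W ∈ F, W ≠ ⊤) (hfc : ∀ y : K, {W | W ∈ F ∧ y ∉ W}.Finite)
    (hbad : {W | W ∈ F ∧ ¬ IsGoodVal A W}.Finite)
    (hfib : ∀ (q : Ideal A) [q.IsPrime],
      {P : Ideal (integralClosure A K) | P.IsPrime ∧ P.under A = q}.Finite) :
    ∃ C : Subalgebra A K, Module.Finite A C ∧
      (∀ (p : Ideal C) [p.IsPrime], p.height = 1 →
        ∃ V : ValuationSubring K, IsDiscreteValuationRing V ∧
          ∀ x : K, x ∈ V ↔ ∃ s : C, s ∉ p ∧ IsIntegral C ((s : K) * x)) ∧
      (∀ x : K, x ∈ integralClosure A K ↔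
        ∀ (p : Ideal C) [p.IsPrime], p.height = 1 → ∃ s : C, s ∉ p ∧ IsIntegral C ((s : K) * x)) ∧
      (∀ x : K, {p : Ideal C | p.IsPrime ∧ p.height = 1 ∧
        ¬ ∃ s : C, s ∉ p ∧ IsIntegral C ((s : K) * x)}.Finite) := by
  classical
  -- an irredundant choice of bad valuations
  let ok : Finset (ValuationSubring K) → Prop := fun S => S ⊆ hbad.toFinset ∧
    ∀ y : K, (∀ W ∈ F, IsGoodVal A W ∨ W ∈ S → y ∈ W) → IsIntegral A y
  have hok : ok hbad.toFinset := ⟨subset_rfl, fun y hy => (hcut y).2 fun W hW =>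
    hy W hW ((em (IsGoodVal A W)).imp_right fun h => hbad.mem_toFinset.2 ⟨hW, h⟩)⟩
  have hexn : ∃ n, ∃ S, ok S ∧ S.card = n := ⟨_, _, hok, rfl⟩
  obtain ⟨S1, ⟨hSb, hScut⟩, hSn⟩ := Nat.find_spec hexn
  let G : Set (ValuationSubring K) := {W | W ∈ F ∧ (IsGoodVal A W ∨ W ∈ S1)}
  have hGF : ∀ W ∈ G, W ∈ F := fun W h => h.1
  have hint : ∀ y : K, IsIntegral A y ↔ ∀ W ∈ G, y ∈ W := fun y =>
    ⟨fun h W hW => (hcut y).1 h W (hGF W hW), fun h => hScut y fun W hW h' => h W ⟨hW, h'⟩⟩
  have hSG : ∀ W ∈ S1, W ∈ G := fun W hW => ⟨(hbad.mem_toFinset.1 (hSb hW)).1, Or.inr hW⟩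
  have hirr : ∀ W ∈ S1, ∃ x : K, x ∉ W ∧ ∀ W' ∈ G, W' ≠ W → x ∈ W' := by
    intro W hW
    by_contra hcon
    simp only [not_exists, not_and, not_forall] at hcon
    refine Nat.find_min hexn (m := (S1.erase W).card) ?_ ⟨_, ⟨(Finset.erase_subset _ _).trans hSb, fun y hy => ?_⟩, rfl⟩
    · rw [← hSn]; exact Finset.card_erase_lt_of_mem hW
    · refine (hint y).2 fun W' hW' => ?_
      by_cases hWW : W' = W
      · by_contra hyW
        rw [hWW] at hyW
        obtain ⟨W'', hW'', hne'', hy''⟩ := hcon y hyW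
        exact hy'' (hy W'' hW''.1 (hW''.2.imp_right fun h => Finset.mem_erase.2 ⟨hne'', h⟩))
      · exact hy W' hW'.1 (hW'.2.imp_right fun h => Finset.mem_erase.2 ⟨hWW, h⟩)
  -- elementary properties
  have hAW : ∀ W ∈ F, ∀ y : K, IsIntegral A y → y ∈ W := fun W hW y hy => (hcut y).1 hy W hW
  have hcentre : ∀ W ∈ F, ∃ a : A, a ≠ 0 ∧ algebraMap A K a ∈ W.nonunits := by
    intro W hW
    by_contra hcon
    simp only [not_exists, not_and] at hcon
    refine hne W hW (eq_top_iff.2 fun y _ => ?_)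
    obtain ⟨⟨r, s⟩, hy⟩ := IsLocalization.surj (nonZeroDivisors A) y
    have hs := hcon s (nonZeroDivisors.coe_ne_zero s)
    rw [mem_nonunits_iff_inv, not_or, not_not] at hs
    have := W.mul_mem _ _ (hAW W hW _ (isIntegral_algebraMap (x := r))) hs.2
    simp only at hy
    rwa [← hy, mul_assoc, mul_inv_cancel₀ hs.1, mul_one] at this
  have hsep : ∀ W ∈ S1, ∀ v ∈ G, v ≠ W →
      ∃ e : K, IsIntegral A e ∧ e ∉ W.nonunits ∧ e ∈ v.nonunits := by
    intro W hW v hv hvW
    obtain ⟨a, ha0, ha⟩ := hcentre v (hGF v hv)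
    by_cases haW : algebraMap A K a ∈ W.nonunits
    · obtain ⟨x, hxW, hx⟩ := hirr W hW
      obtain ⟨i, j, hi, h1, h2⟩ := exists_pow_mul_pow_unit (hdisc W (hGF W (hSG W hW))) hxW haW
        ((map_ne_zero_iff _ (IsFractionRing.injective A K)).2 ha0)
      refine ⟨_, (hint _).2 fun W' hW' => ?_, h2, mul_mem_nonunits (pow_mem_nonunits ha hi) (pow_mem (hx v hv hvW) j)⟩
      by_cases hWW : W' = W
      · rwa [hWW]
      · exact W'.mul_mem _ _ (pow_mem (hAW W' (hGF W' hW') _ isIntegral_algebraMap) i) (pow_mem (hx W' hW' hWW) j)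
    · exact ⟨_, isIntegral_algebraMap, haW, ha⟩
  have hloc : ∀ W ∈ S1, ∀ y : K, y ∈ W →
      ∃ s : K, IsIntegral A s ∧ s ∉ W.nonunits ∧ IsIntegral A (s * y) := by
    intro W hW y hy
    have hTfin : {v | v ∈ G ∧ y ∉ v}.Finite := (hfc y).subset fun v hv => ⟨hGF v hv.1, hv.2⟩
    choose e he heW hev using fun v : hTfin.toFinset =>
      hsep W hW v.1 (hTfin.mem_toFinset.1 v.2).1 fun h => (hTfin.mem_toFinset.1 v.2).2 (h.symm ▸ hy)
    have hn : ∀ v : hTfin.toFinset, ∃ n : ℕ, ∀ m, n ≤ m → e v ^ m * y ∈ v.1 := fun v =>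
      exists_pow_mul_mem (hdisc _ (hGF _ (hTfin.mem_toFinset.1 v.2).1)) (hev v)
        (fun h => heW v (by rw [h, mem_nonunits_iff_inv]; exact Or.inl rfl)) y
    choose n hn using hn
    set s := ∏ v : hTfin.toFinset, e v ^ n v with hs
    have hsint : IsIntegral A s := IsIntegral.prod _ fun v _ => (he v).pow _
    refine ⟨s, hsint, ?_, (hint _).2 fun W' hW' => ?_⟩
    · have hWF := hGF W (hSG W hW)
      refine Finset.prod_induction _ (fun t => t ∈ W ∧ t ∉ W.nonunits)
        (fun a b ha hb => ⟨W.mul_mem _ _ ha.1 hb.1, mul_notMem_nonunits ha.1 hb.1 ha.2 hb.2⟩)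
        ⟨W.one_mem, fun h => ?_⟩ (fun v _ => ?_) |>.2
      · rw [mem_nonunits_iff_inv] at h
        exact h.elim one_ne_zero fun h => h (by rw [inv_one]; exact W.one_mem)
      · induction n v with
        | zero => refine ⟨by rw [pow_zero]; exact W.one_mem, fun h => ?_⟩
                  rw [pow_zero, mem_nonunits_iff_inv] at h
                  exact h.elim one_ne_zero fun h => h (by rw [inv_one]; exact W.one_mem)
        | succ k ih => exact ⟨pow_mem (hAW W hWF _ (he v)) _, by
            rw [pow_succ]; exact mul_notMem_nonunits ih.1 (hAW W hWF _ (he v)) ih.2 (heW v)⟩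
    · by_cases hyW : y ∈ W'
      · exact W'.mul_mem _ _ (hAW W' (hGF W' hW') _ hsint) hyW
      · have hmem : W' ∈ hTfin.toFinset := hTfin.mem_toFinset.2 ⟨hW', hyW⟩
        rw [hs, ← Finset.mul_prod_erase _ _ (Finset.mem_univ (⟨W', hmem⟩ : hTfin.toFinset)),
          mul_assoc, mul_comm (∏ v ∈ _, _) y, ← mul_assoc]
        exact W'.mul_mem _ _ (hn ⟨W', hmem⟩ _ le_rfl)
          (hAW W' (hGF W' hW') _ (IsIntegral.prod _ fun v _ => (he v).pow _))
  -- centres in the integral closure
  choose PA hPAp hPA using fun W : G =>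
    exists_centre (W := W.1) (integralClosure A K) fun c => hAW W.1 (hGF _ W.2) _ c.2
  have hnobelow : ∀ W : G, W.1 ∈ S1 → ∀ P' : Ideal (integralClosure A K), P'.IsPrime →
      P' < PA W → P' = ⊥ := by
    intro W hW P' hP' hlt
    by_contra h0
    obtain ⟨p, hp, hp0⟩ := Submodule.exists_mem_ne_zero_of_ne_bot h0
    obtain ⟨z, hz, hzP⟩ := SetLike.exists_of_lt hlt
    have hzW : (z : K) ∈ W.1.nonunits := (hPA W z).1 hz
    have hz0 : (z : K) ≠ 0 := fun h => hzP ((Subtype.ext h : z = 0) ▸ P'.zero_mem)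
    obtain ⟨n, hn⟩ := exists_pow_mul_mem (hdisc _ (hGF _ W.2)) hzW hz0 (p : K)⁻¹
    obtain ⟨s, hs, hsW, hst⟩ := hloc W.1 hW _ (hn n le_rfl)
    have hmul : (⟨s, hs⟩ : integralClosure A K) * z ^ n = p * ⟨_, hst⟩ := by
      apply Subtype.ext
      push_cast
      field_simp [show (p : K) ≠ 0 from fun h => hp0 (Subtype.ext h)]
    have hP : (⟨s, hs⟩ : integralClosure A K) * z ^ n ∈ P' := hmul ▸ P'.mul_mem_right _ hp
    rcases hP'.mem_or_mem hP with h | h
    · exact hsW ((hPA W _).1 (hlt.le h))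
    · exact hzP (hP'.mem_of_pow_mem n h)
  haveI : ∀ W : G, ((PA W).under A).IsPrime := fun W => by
    haveI := hPAp W; infer_instance
  -- the witnesses
  have hwit : ∀ (W : G) (P : Ideal (integralClosure A K)), P ≠ PA W →
      ∃ c : integralClosure A K, ¬ (c ∈ P ↔ c ∈ PA W) := fun W P h => by
    by_contra hcon
    simp only [not_exists, not_not] at hcon
    exact h (SetLike.ext hcon)
  choose wit hwit using hwit
  let U : Set K := ⋃ W ∈ {W : G | W.1 ∈ S1},
    (fun P => if h : P ≠ PA W then (wit W P h : K) else 0) ''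
      {P : Ideal (integralClosure A K) | P.IsPrime ∧ P.under A = (PA W).under A}
  have hSfin : {W : G | W.1 ∈ S1}.Finite :=
    S1.finite_toSet.preimage Subtype.val_injective.injOn
  have hUfin : U.Finite := hSfin.biUnion fun W _ => (hfib _).image _
  have hUint : ∀ x ∈ U, IsIntegral A x := by
    intro x hx
    obtain ⟨W, -, P, -, rfl⟩ := Set.mem_iUnion₂.1 hx
    dsimp only
    split
    · exact (wit W P ‹_›).2
    · exact isIntegral_zero
  let C : Subalgebra A K := Algebra.adjoin A U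
  haveI hCfin : Module.Finite A C := Module.Finite.iff_fg.2 (fg_adjoin_of_finite hUfin hUint)
  have hCle : C ≤ integralClosure A K := Algebra.adjoin_le hUint
  letI : Algebra C (integralClosure A K) := (Subalgebra.inclusion hCle).toRingHom.toAlgebra
  haveI : IsScalarTower A C (integralClosure A K) :=
    IsScalarTower.of_algebraMap_eq (R := A) (S := C) (A := integralClosure A K) fun _ => rfl
  haveI : Algebra.IsIntegral C (integralClosure A K) := Algebra.IsIntegral.tower_top A
  have hinj : Function.Injective (algebraMap C (integralClosure A K)) :=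
    Subalgebra.inclusion_injective hCle
  have hCint : ∀ x : K, IsIntegral C x ↔ IsIntegral A x :=
    fun x => ⟨fun h => isIntegral_trans (R := A) _ h, fun h => h.tower_top⟩
  choose PC hPCp hPC using fun W : G =>
    exists_centre (W := W.1) C fun c => hAW W.1 (hGF _ W.2) _ (hCle c.2)
  have hcomap : ∀ W : G, (PA W).comap (algebraMap C (integralClosure A K)) = PC W := fun W => by
    ext c; rw [Ideal.mem_comap, hPA, hPC]; rfl
  have hunique : ∀ W : G, W.1 ∈ S1 → ∀ P : Ideal (integralClosure A K), P.IsPrime →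
      P.comap (algebraMap C (integralClosure A K)) = PC W → P = PA W := by
    intro W hW P hP h
    by_contra hPne
    have hq : P.under A = (PA W).under A := by
      rw [Ideal.under_def, Ideal.under_def, IsScalarTower.algebraMap_eq A C (integralClosure A K),
        ← Ideal.comap_comap, ← Ideal.comap_comap, h, hcomap]
    have hU : (wit W P hPne : K) ∈ U :=
      Set.mem_iUnion₂.2 ⟨W, hW, P, ⟨hP, hq⟩, by simp only [dif_pos (show P ≠ PA W from hPne)]⟩
    refine hwit W P hPne ?_
    have hc : algebraMap C (integralClosure A K) ⟨_, Algebra.subset_adjoin hU⟩ = wit W P hPne :=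
      Subtype.ext rfl
    rw [← hc, ← Ideal.mem_comap, ← Ideal.mem_comap, h, hcomap]
  have hPCbot : ∀ W : G, PC W ≠ ⊥ := fun W h => by
    obtain ⟨a, ha0, ha⟩ := hcentre W.1 (hGF _ W.2)
    have : algebraMap A C a ∈ PC W := (hPC W _).2 ha
    rw [h, Ideal.mem_bot] at this
    exact ha0 (IsFractionRing.injective A K (by rw [map_zero]; exact congrArg Subtype.val this))
  have hheight : ∀ W : G, (PC W).height = 1 := by
    intro W
    haveI := hPCp W
    refine le_antisymm ?_ (ENat.one_le_iff_ne_zero.2 fun h => hPCbot W (Ideal.height_eq_zero_iff_eq_bot.1 h))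
    rcases W.2.2 with ⟨q, hqp, hq1, hq, -⟩ | hW
    · have hqe : (PC W).under A = q := by
        ext a
        rw [Ideal.mem_comap, hPC, hq]
        rfl
      exact (VarDim.height_le_height_under_of_isIntegral (R := A) (PC W)).trans (by rw [hqe, hq1])
    · rw [show (1 : ℕ∞) = ((1 : ℕ) : ℕ∞) from rfl, Ideal.height_le_iff]
      intro p' hp' hlt
      haveI := hp'
      suffices p' = ⊥ by rw [this, Ideal.height_bot]; norm_num
      obtain ⟨P0, -, hP0p, hP0⟩ := Ideal.exists_ideal_over_prime_of_isIntegral p'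
        (⊥ : Ideal (integralClosure A K)) (by rw [Ideal.comap_bot_of_injective _ hinj]; exact bot_le)
      obtain ⟨P1, hle, hP1p, hP1⟩ := Ideal.exists_ideal_over_prime_of_isIntegral (PC W) P0
        (hP0.le.trans hlt.le)
      rw [hunique W hW P1 hP1p hP1] at hle
      have h0 := hnobelow W hW P0 hP0p (lt_of_le_of_ne hle fun h => hlt.ne (by rw [← hP0, h, hcomap]))
      rw [← hP0, h0, Ideal.comap_bot_of_injective _ hinj]
  have hformula : ∀ (W : G) (x : K), x ∈ W.1 ↔ ∃ s : C, s ∉ PC W ∧ IsIntegral C ((s : K) * x) := by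
    intro W x
    constructor
    · intro hx
      rcases W.2.2 with ⟨q, hqp, hq1, hq, hql⟩ | hW
      · obtain ⟨s, hs, hsx⟩ := hql x hx
        refine ⟨algebraMap A C s, fun h => hs ((hq s).2 ((hPC W _).1 h)), (hCint _).2 ?_⟩
        rw [Algebra.smul_def] at hsx
        exact hsx
      · obtain ⟨s, hs, hsW, hsx⟩ := hloc W.1 hW x hx
        have hnle : ¬ (Ideal.span {(⟨s, hs⟩ : integralClosure A K)}).comap
            (algebraMap C (integralClosure A K)) ≤ PC W := by
          intro hle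
          haveI := hPCp W
          obtain ⟨P1, hP1le, hP1p, hP1⟩ := Ideal.exists_ideal_over_prime_of_isIntegral (PC W) _ hle
          have := hP1le (Ideal.mem_span_singleton_self _)
          rw [hunique W hW P1 hP1p hP1] at this
          exact hsW ((hPA W _).1 this)
        obtain ⟨c, hc, hcP⟩ := SetLike.not_le_iff_exists.1 hnle
        obtain ⟨t, ht⟩ := Ideal.mem_span_singleton'.1 (Ideal.mem_comap.1 hc)
        refine ⟨c, hcP, (hCint _).2 ?_⟩
        have hc' : (c : K) = (t : K) * s := (congrArg Subtype.val ht).symm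
        rw [hc', mul_assoc]
        exact (show IsIntegral A (t : K) from t.2).mul hsx
    · rintro ⟨s, hs, hsx⟩
      have h1 := hAW W.1 (hGF _ W.2) _ ((hCint _).1 hsx)
      have h2 : (s : K) ∉ W.1.nonunits := fun h => hs ((hPC W s).2 h)
      rw [mem_nonunits_iff_inv, not_or, not_not] at h2
      have := W.1.mul_mem _ _ h2.2 h1
      rwa [← mul_assoc, inv_mul_cancel₀ h2.1, one_mul] at this
  have hevery : ∀ (p : Ideal C), p.IsPrime → p.height = 1 → ∃ W : G, PC W = p := by
    intro p hp hp1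
    haveI := hp
    obtain ⟨a, hap, ha0⟩ := Submodule.exists_mem_ne_zero_of_ne_bot (Ideal.ne_bot_of_height_eq_one hp1)
    have hTfin : {W : G | (a : K)⁻¹ ∉ W.1}.Finite :=
      Set.Finite.of_finite_image ((hfc (a : K)⁻¹).subset (by
        rintro _ ⟨W, hW, rfl⟩; exact ⟨hGF _ W.2, hW⟩)) Subtype.val_injective.injOn
    by_contra hcon
    simp only [not_exists] at hcon
    have hnle : ∀ W : G, ¬ PC W ≤ p := by
      intro W hle
      haveI := hPCp W
      refine hcon W (hle.antisymm ?_)
      by_contra hh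
      have h2 := Ideal.height_le_iff.1 (hp1.le.trans (le_refl ((1 : ℕ) : ℕ∞))) (PC W) inferInstance
        (lt_of_le_not_ge hle hh)
      rw [hheight W] at h2
      exact lt_irrefl _ h2
    choose t htW htp using fun W : hTfin.toFinset => SetLike.not_le_iff_exists.1 (hnle W.1)
    have htn : ∀ W : hTfin.toFinset, (t W : K) ≠ 0 := fun W h => htp W (by
      rw [show t W = 0 from Subtype.ext h]; exact p.zero_mem)
    have hn : ∀ W : hTfin.toFinset, ∃ n : ℕ, ∀ m, n ≤ m → (t W : K) ^ m * (a : K)⁻¹ ∈ W.1.1 := fun W =>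
      exists_pow_mul_mem (hdisc _ (hGF _ W.1.2)) ((hPC W.1 _).1 (htW W)) (htn W) _
    choose n hn using hn
    let T : C := ∏ W : hTfin.toFinset, t W ^ n W
    have hTp : T ∉ p := fun h => by
      obtain ⟨W, -, hW⟩ := Ideal.IsPrime.prod_mem_iff.1 h
      exact htp W (hp.mem_of_pow_mem _ hW)
    have hmem : IsIntegral C ((T : K) * (a : K)⁻¹) := by
      rw [hCint, hint]
      intro W hW
      by_cases haW : (a : K)⁻¹ ∈ W
      · exact W.mul_mem _ _ (hAW W (hGF W hW) _ (hCle T.2)) haW
      · have hmem : (⟨W, hW⟩ : G) ∈ hTfin.toFinset := hTfin.mem_toFinset.2 haW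
        simp only [T, SubmonoidClass.coe_finsetProd, SubmonoidClass.coe_pow]
        rw [← Finset.mul_prod_erase _ _ (Finset.mem_univ (⟨⟨W, hW⟩, hmem⟩ : hTfin.toFinset)),
          mul_assoc, mul_comm (∏ v ∈ _, _), ← mul_assoc]
        refine W.mul_mem _ _ (hn ⟨⟨W, hW⟩, hmem⟩ _ le_rfl) (hAW W (hGF W hW) _ ?_)
        exact IsIntegral.prod _ fun v _ => (show IsIntegral A (t v : K) from hCle (t v).2).pow _
    -- `T` is in the radical of `(a)`
    obtain ⟨f, hf, hf0⟩ := hmem
    refine hTp (hp.mem_of_pow_mem f.natDegree ?_)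
    have ha0' : (a : K) ≠ 0 := fun h => ha0 (Subtype.ext h)
    rw [← Polynomial.aeval_def] at hf0
    have hroot : Polynomial.aeval (T : K) (f.scaleRoots a) = 0 := by
      have := Polynomial.scaleRoots_aeval_eq_zero (r := a) hf0
      rwa [show algebraMap C K a = (a : K) from rfl, mul_comm (a : K) _, mul_assoc,
        inv_mul_cancel₀ ha0', mul_one] at this
    rw [show (T : K) = algebraMap C K T from rfl, Polynomial.aeval_algebraMap_eq_zero_iff] at hroot
    rw [Polynomial.aeval_def, Polynomial.eval₂_eq_sum_range, Polynomial.natDegree_scaleRoots,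
      Finset.sum_range_succ] at hroot
    simp only [Polynomial.coeff_scaleRoots, Algebra.algebraMap_self_apply, hf.coeff_natDegree, one_mul,
      Nat.sub_self, pow_zero, one_mul] at hroot
    rw [eq_neg_of_add_eq_zero_right hroot]
    refine p.neg_mem (p.sum_mem fun i hi => Ideal.mul_mem_right _ _ (Ideal.mul_mem_left _ _ ?_))
    exact Ideal.pow_mem_of_mem _ hap _ (Nat.sub_pos_of_lt (Finset.mem_range.1 hi))
  refine ⟨C, hCfin, fun p _ hp => ?_, fun x => ⟨fun hx p _ _ => ?_, fun h => ?_⟩, fun x => ?_⟩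
  · obtain ⟨W, rfl⟩ := hevery p inferInstance hp
    exact ⟨W.1, hdisc _ (hGF _ W.2), hformula W⟩
  · refine ⟨1, fun h => Ideal.IsPrime.ne_top inferInstance ((Ideal.eq_top_iff_one _).2 h), ?_⟩
    rw [OneMemClass.coe_one, one_mul, hCint]
    exact hx
  · refine (hint x).2 fun W hW => ?_
    haveI := hPCp ⟨W, hW⟩
    exact (hformula ⟨W, hW⟩ x).2 (h (PC ⟨W, hW⟩) (hheight _))
  · have hfin : {W : G | x ∉ W.1}.Finite := Set.Finite.of_finite_image ((hfc x).subset (by
      rintro _ ⟨W, hW, rfl⟩; exact ⟨hGF _ W.2, hW⟩)) Subtype.val_injective.injOn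
    refine (hfin.image PC).subset ?_
    rintro p ⟨hp, hp1, hx⟩
    obtain ⟨W, rfl⟩ := hevery p hp hp1
    exact ⟨W, fun h => hx ((hformula W x).1 h), rfl⟩

/-- Mori–Nagata, given a faithfully flat Noetherian extension with finite normalisations of its
components. -/
theorem exists_finite_subalgebra_of_faithfullyFlat (A : Type u) [CommRing A] [IsDomain A]
    (B : Type u) [CommRing B] [Algebra A B] [IsNoetherianRing B] [Module.FaithfullyFlat A B]
    [hN : ∀ p : minimalPrimes B, Module.Finite (B ⧸ p.1) (CompInt p)]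
    (K : Type u) [Field K] [Algebra A K] [IsFractionRing A K] :
    ∃ C : Subalgebra A K, Module.Finite A C ∧
      (∀ (p : Ideal C) [p.IsPrime], p.height = 1 →
        ∃ V : ValuationSubring K, IsDiscreteValuationRing V ∧
          ∀ x : K, x ∈ V ↔ ∃ s : C, s ∉ p ∧ IsIntegral C ((s : K) * x)) ∧
      (∀ x : K, x ∈ integralClosure A K ↔
        ∀ (p : Ideal C) [p.IsPrime], p.height = 1 → ∃ s : C, s ∉ p ∧ IsIntegral C ((s : K) * x)) ∧
      (∀ x : K, {p : Ideal C | p.IsPrime ∧ p.height = 1 ∧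
        ¬ ∃ s : C, s ∉ p ∧ IsIntegral C ((s : K) * x)}.Finite) :=
  exists_finite_subalgebra {W | IsCompVal A B W} (fun y => isIntegral_iff_compVal (B := B) y)
    (fun _ h => h.isDiscrete) (fun _ h => h.1) (fun y => finite_compVal_notMem y)
    finite_compVal_not_good (fun q _ => finite_primes_over (B := B) hN q)

end Groth.Agent.MoriNagata
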